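import Cfsg.Agent.PermGroups.PrimeExceptional.Coherence
import Cfsg.Agent.Chars.Values

/-!
# The permutation character of degree `2 p`
-/

set_option autoImplicit false
set_option linter.unusedSectionVars false
set_option maxHeartbeats 1000000

namespace Cfsg.Lib.PermGroups.PrimeExceptional.Setting

open Cfsg.Lib.Chars
open scoped ComplexConjugate Classical

universe u v

variable {G : Type u} [Group G] [Fintype G] {p : ℕ} [Fact p.Prime] (h : Setting G p)

include h in
theorem exists_inverter : ∃ w : G, w ∈ h.N ∧ w ∉ h.P ∧ w * w = 1 ∧ ¬h.Sing w := by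
  have hp := (Fact.out : p.Prime)
  obtain ⟨w, hw, hwP⟩ : ∃ w : G, w ∈ h.N ∧ w ∉ h.P := by
    by_contra hc
    push Not at hc
    have hle := Subgroup.card_le_of_le (K := h.P) hc
    rw [show Nat.card h.N = 2 * p from h.normCard, h.card_P] at hle
    have := hp.pos
    omega
  have hle : h.P ≤ h.N := Subgroup.le_normalizer
  have hidx : (h.P.subgroupOf h.N).index = 2 := by
    have h1 := (h.P.subgroupOf h.N).card_mul_index
    rw [Nat.card_congr (Subgroup.subgroupOfEquivOfLe hle).toEquiv, h.card_P,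
      show Nat.card h.N = 2 * p from h.normCard, mul_comm 2 p] at h1
    exact Nat.eq_of_mul_eq_mul_left hp.pos h1
  have hsq : w * w ∈ h.P := by
    have := Subgroup.sq_mem_of_index_two hidx (⟨w, hw⟩ : h.N)
    rw [Subgroup.mem_subgroupOf, pow_two] at this
    exact this
  have h1 : w * w = 1 := by
    by_contra hne
    exact hwP (h.mem_of_commute hsq hne (by show w * (w * w) = w * w * w; rw [mul_assoc]))
  refine ⟨w, hw, hwP, h1, fun hs => ?_⟩
  obtain ⟨hne, x, hx⟩ := hs
  refine h.mul_self_ne_one hx (fun e => hne ?_) ?_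
  · exact (conj_eq_one_iff (a := x⁻¹) (b := w)).1 (by rwa [inv_inv])
  · rw [show x⁻¹ * w * x * (x⁻¹ * w * x) = x⁻¹ * (w * w) * x from by group, h1]; group

theorem classFunction_inv_eq {F : G → ℂ} (hF : Cfsg.IsClassFunction G F) (y : h.P) :
    F ((y⁻¹ : h.P) : G) = F y := by
  obtain ⟨w, hw, hwP, -, -⟩ := h.exists_inverter
  rw [Subgroup.coe_inv, ← h.conj_eq_inv hw hwP y.2]
  exact hF _ _

/-- The sum of a class function over the elements not conjugate into `P`. -/
theorem sum_nonsing {F : G → ℂ} (hF : Cfsg.IsClassFunction G F) :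
    ∑ g ∈ Finset.univ.filter (fun g => ¬h.Sing g), F g =
      ∑ g : G, F g - (Nat.card G : ℂ) / (2 * p) * (∑ y : h.P, F y - F 1) := by
  let θ' : h.P → ℂ := fun y => if y = 1 then 0 else F y / 2
  let J : G → ℂ := Cfsg.indFun h.P θ'
  have hθ1 : θ' 1 = 0 := if_pos rfl
  have hJns : ∀ g, ¬h.Sing g → J g = 0 := fun g hg => h.indFun_nonsing θ' hθ1 hg
  have hJs : ∀ g, h.Sing g → J g = F g := by
    rintro g ⟨hg1, x, hx⟩
    have e1 := isClassFunction_indFun h.P θ' g x⁻¹
    have e2 := hF g x⁻¹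
    rw [inv_inv] at e1 e2
    show Cfsg.indFun h.P θ' g = F g
    rw [← e1, ← e2]
    have hne : x⁻¹ * g * x ≠ 1 := fun e => hg1 ((conj_eq_one_iff (a := x⁻¹) (b := g)).1 (by rwa [inv_inv]))
    have hne' : (⟨_, hx⟩ : h.P) ≠ 1 := fun e => hne (congrArg Subtype.val e)
    rw [show Cfsg.indFun h.P θ' (x⁻¹ * g * x) = θ' ⟨_, hx⟩ + θ' (⟨_, hx⟩ : h.P)⁻¹ from
      h.indFun_mem θ' (y := ⟨_, hx⟩) hne]
    simp only [θ', if_neg hne', inv_eq_one, h.classFunction_inv_eq hF]
    ring
  have hsum : ∑ g : G, J g = (Nat.card G : ℂ) / (2 * p) * (∑ y : h.P, F y - F 1) := by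
    have e := frobenius_reciprocity h.P θ' (χ := fun _ : G => (1 : ℂ)) (fun _ _ => rfl)
    rw [classInner_def, classInner_def, h.card_P] at e
    simp only [map_one, mul_one] at e
    have hG : (Nat.card G : ℂ) ≠ 0 := by exact_mod_cast Nat.card_pos.ne'
    rw [inv_mul_eq_iff_eq_mul₀ hG] at e
    show ∑ g : G, Cfsg.indFun h.P θ' g = _
    rw [e]
    have e2 : ∑ y : h.P, θ' y = (∑ y : h.P, F y - F 1) / 2 := by
      rw [← Finset.add_sum_erase Finset.univ θ' (Finset.mem_univ 1), hθ1, zero_add,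
        ← Finset.add_sum_erase Finset.univ (fun y : h.P => F y) (Finset.mem_univ 1), OneMemClass.coe_one,
        add_sub_cancel_left, Finset.sum_div]
      exact Finset.sum_congr rfl fun y hy => if_neg (Finset.mem_erase.1 hy).1
    rw [e2]
    ring
  rw [← hsum, ← Finset.sum_sub_distrib, Finset.sum_filter]
  refine Finset.sum_congr rfl fun g _ => ?_
  by_cases hg : h.Sing g
  · rw [if_neg (not_not.2 hg), hJs g hg, sub_self]
  · rw [if_pos hg, hJns g hg, sub_zero]

variable (α : Type v) [MulAction G α] [Finite α] [MulAction.IsPretransitive G α]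

/-- The permutation character of degree `2 p` is `1 + θ + ψ`. -/
theorem decomp (hp3 : 3 < p) (hα : Nat.card α = 2 * p) (hfree : ∀ a : α, h.t • a ≠ a)
    (hnot2 : Cfsg.classInner (permChar G α) (permChar G α) ≠ 2) (hN : h.N ≠ ⊤)
    (hmin : ∀ K : Subgroup G, K.Normal → h.t ∉ K → K = ⊥) :
    ∃ (θ ψ : Cfsg.IrrCharacter G) (μ : ZMod p → Cfsg.IrrCharacter G),
      permChar G α = (fun _ => (1 : ℂ)) + (θ : G → ℂ) + (ψ : G → ℂ) ∧
      θ ≠ ψ ∧ θ ≠ principal G ∧ ψ ≠ principal G ∧
      (θ : G → ℂ) 1 = ((p - 1 : ℕ) : ℂ) ∧ (ψ : G → ℂ) 1 = (p : ℂ) ∧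
      (∀ l, l ≠ 0 → μ l ≠ principal G ∧ (μ l : G → ℂ) 1 = ((p - 2 : ℕ) : ℂ) ∧
        (∀ g, ¬h.Sing g → (μ l : G → ℂ) g = (θ : G → ℂ) g - 1) ∧
        (∀ y : h.P, (y : G) ≠ 1 → (μ l : G → ℂ) y = -(h.E l y + h.E (-l) y)) ∧
        h.I l = (fun _ => (1 : ℂ)) - (θ : G → ℂ) + (μ l : G → ℂ)) ∧
      (∀ k l, k ≠ 0 → l ≠ 0 → μ k = μ l → k = l ∨ k = -l) := by
  have hp := (Fact.out : p.Prime)
  have hne : Nonempty α := (Nat.card_pos_iff.1 (by rw [hα]; omega)).1
  obtain ⟨ε, δ, θ, μ, hε, hδ, hθ1, hμ, hinj⟩ := h.exists_coherent hp3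
  have h10 : (1 : ZMod p) ≠ 0 := one_ne_zero
  have hneg : ∀ l, l ≠ 0 → μ (-l) = μ l := fun l hl => by
    have e := h.A_neg l
    rw [A, A, (hμ l hl).2.2, (hμ (-l) (neg_ne_zero.2 hl)).2.2] at e
    apply Subtype.ext
    funext g
    have e2 := congrFun e g
    simp only [Pi.sub_apply, Pi.add_apply, Pi.smul_apply, smul_eq_mul] at e2
    rcases hδ with rfl | rfl <;> push_cast at e2 <;> first
      | linear_combination e2
      | linear_combination -e2
  have hIχ : ∀ (χ : Cfsg.IrrCharacter G) (l : ZMod p), l ≠ 0 → Cfsg.classInner (χ : G → ℂ) (h.I l) =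
      (if χ = principal G then 1 else 0) + (ε : ℂ) * (if χ = θ then 1 else 0) +
        (δ : ℂ) * (if χ = μ l then 1 else 0) := fun χ l hl => by
    rw [(hμ l hl).2.2, classInner_add_right, classInner_add_right, classInner_smul_right,
      classInner_smul_right, show (fun _ : G => (1 : ℂ)) = (principal G : G → ℂ) from rfl,
      classInner_irrCharacter, classInner_irrCharacter, classInner_irrCharacter, map_intCast, map_intCast]
  have hθP : ∀ y : h.P, (θ : G → ℂ) y = (if y = 1 then (p : ℂ) *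
      Cfsg.classInner (fun y : h.P => (θ : G → ℂ) y) (⇑(h.E 0)) else 0) -
        (ε : ℂ) * ((if y = 1 then (p : ℂ) else 0) - 1) := fun y => by
    rw [h.restrict_eq (isClassFunction_irr θ) (fun k => if k = 0 then 0 else (ε : ℂ)) (if_pos rfl)
      (fun l hl => by
        rw [hIχ θ l hl, if_neg hθ1, if_pos rfl, if_neg (Ne.symm (hμ l hl).1), if_neg hl]; ring) y]
    congr 1
    rw [← h.sum_E y, ← Finset.add_sum_erase Finset.univ _ (Finset.mem_univ (0 : ZMod p)), if_pos rfl,
      zero_mul, zero_add, ← Finset.add_sum_erase Finset.univ (fun k => h.E k y) (Finset.mem_univ (0 : ZMod p)),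
      h.E_zero, add_sub_cancel_left, Finset.mul_sum]
    exact Finset.sum_congr rfl fun k hk => by rw [if_neg (Finset.mem_erase.1 hk).1]
  have hμP : ∀ l, l ≠ 0 → ∀ y : h.P, (μ l : G → ℂ) y = (if y = 1 then (p : ℂ) *
      Cfsg.classInner (fun y : h.P => (μ l : G → ℂ) y) (⇑(h.E 0)) else 0) -
        (δ : ℂ) * (h.E l y + h.E (-l) y) := fun l hl y => by
    rw [h.restrict_eq (isClassFunction_irr (μ l)) (fun k => if k = l ∨ k = -l then (δ : ℂ) else 0)
      (if_neg (by rintro (e | e); exacts [hl e.symm, hl (neg_eq_zero.1 e.symm)]))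
      (fun k hk => by
        rw [hIχ (μ l) k hk, if_neg (hμ l hl).2.1, if_neg (hμ l hl).1]
        by_cases hkl : k = l ∨ k = -l
        · rw [if_pos hkl, if_pos (by rcases hkl with rfl | rfl; exacts [rfl, (hneg l hl).symm])]
          ring
        · rw [if_neg hkl, if_neg fun e => hkl (hinj k l hk hl e.symm)]
          ring) y]
    congr 1
    rw [← Finset.sum_subset (Finset.subset_univ {l, -l}) fun k _ hk => by
      simp only [Finset.mem_insert, Finset.mem_singleton] at hk
      rw [if_neg hk, zero_mul], Finset.sum_pair (h.neg_ne hl).symm, if_pos (Or.inl rfl), if_pos (Or.inr rfl)]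
    ring
  have hint : ∀ χ : Cfsg.IrrCharacter G, ∃ n : ℕ,
      Cfsg.classInner (fun y : h.P => (χ : G → ℂ) y) (⇑(h.E 0)) = n := fun χ => by
    have e : (⇑(h.E 0)) = fun _ : h.P => (1 : ℂ) := funext fun y => h.E_zero y
    rw [e]
    exact IsCharacter.exists_mult (IsCharacter.restrict (isCharacter_of_irr χ.2) h.P) isIrrCharacter_one
  obtain ⟨aθ, haθ⟩ := hint θ
  have hdθ : (deg (θ : G → ℂ) : ℤ) = p * aθ - ε * ((p : ℤ) - 1) := by
    have e := hθP 1
    rw [if_pos rfl, if_pos rfl, haθ, OneMemClass.coe_one, irr_apply_one_eq_deg] at e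
    exact_mod_cast e
  obtain ⟨aμ, haμ⟩ := hint (μ 1)
  have hdμ1 : (deg (μ 1 : G → ℂ) : ℤ) = p * aμ - δ * 2 := by
    have e := hμP 1 h10 1
    rw [if_pos rfl, haμ, OneMemClass.coe_one, irr_apply_one_eq_deg, map_one, map_one, one_add_one_eq_two] at e
    exact_mod_cast e
  have hdeg : ∀ l, l ≠ 0 → ε * deg (θ : G → ℂ) + δ * deg (μ l : G → ℂ) = -1 := fun l hl => by
    have e := congrFun (hμ l hl).2.2 1
    rw [I, indFun_one, θ_one, mul_zero] at e
    simp only [Pi.add_apply, Pi.smul_apply, smul_eq_mul, irr_apply_one_eq_deg] at e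
    have e' : (0 : ℤ) = 1 + ε * deg (θ : G → ℂ) + δ * deg (μ l : G → ℂ) := by exact_mod_cast e
    omega
  have hnonsing : ∀ l, l ≠ 0 → ∀ g, ¬h.Sing g →
      (1 : ℂ) + (ε : ℂ) * (θ : G → ℂ) g + (δ : ℂ) * (μ l : G → ℂ) g = 0 := fun l hl g hg => by
    have e := congrFun (hμ l hl).2.2 g
    rw [I, h.indFun_nonsing _ (h.θ_one _) hg] at e
    exact e.symm
  -- the multiplicities in the permutation character
  obtain ⟨m, hm⟩ := IsCharacter.exists_decomp (isCharacter_permChar (G := G) α)
  have hmult : ∀ χ : Cfsg.IrrCharacter G, Cfsg.classInner (permChar G α) (χ : G → ℂ) = (m χ : ℂ) := fun χ => by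
    rw [hm]
    have : (∑ χ : Cfsg.IrrCharacter G, m χ • (χ : G → ℂ)) =
        ∑ χ : Cfsg.IrrCharacter G, (m χ : ℂ) • (χ : G → ℂ) :=
      Finset.sum_congr rfl fun χ _ => (Nat.cast_smul_eq_nsmul ℂ _ _).symm
    rw [this, classInner_irrSum]
  have hm1 : m (principal G) = 1 := by
    have e := hmult (principal G)
    rw [show (principal G : G → ℂ) = fun _ => (1 : ℂ) from rfl, classInner_perm_one α hne] at e
    exact_mod_cast e.symm
  have hdegsum : ∑ χ, m χ * deg (χ : G → ℂ) = 2 * p := by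
    have e := congrFun hm 1
    rw [permChar, MulAction.fixedBy_one_eq_univ, Nat.card_congr (Equiv.Set.univ α), hα, Finset.sum_apply] at e
    simp only [Pi.smul_apply, nsmul_eq_mul, irr_apply_one_eq_deg] at e
    exact_mod_cast e.symm
  have hrel : ∀ l, l ≠ 0 → 1 + ε * m θ + δ * m (μ l) = 0 := fun l hl => by
    have e : Cfsg.classInner (permChar G α) (h.I l) = 0 := by
      rw [I, frobenius_reciprocity' _ _ (isClassFunction_isChar (isCharacter_permChar α)), classInner_def,
        Finset.sum_eq_zero, mul_zero]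
      intro y _
      by_cases h1 : (y : G) = 1
      · rw [show y = 1 from Subtype.ext h1, θ_one, map_zero, mul_zero]
      · rw [h.permChar_mem α hfree y.2 h1, zero_mul]
    rw [(hμ l hl).2.2, classInner_add_right, classInner_add_right, classInner_smul_right,
      classInner_smul_right, hmult, hmult, classInner_perm_one α hne, map_intCast, map_intCast] at e
    exact_mod_cast e
  obtain ⟨q, hq⟩ : ∃ q, p = 2 * q + 1 := hp.odd_of_ne_two (by omega)
  set r := (p - 1) / 2 with hr
  have hr2 : 2 ≤ r := by omega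
  let L : Finset (ZMod p) := (Finset.Icc 1 r).image (fun n : ℕ => (n : ZMod p))
  have hLne : ∀ n ∈ Finset.Icc 1 r, (n : ZMod p) ≠ 0 := fun n hn e => by
    rw [ZMod.natCast_eq_zero_iff] at e
    rw [Finset.mem_Icc] at hn
    exact absurd (Nat.le_of_dvd (by omega) e) (by omega)
  have hμinj : Set.InjOn (fun n : ℕ => μ (n : ZMod p)) (Finset.Icc 1 r : Set ℕ) := fun a ha b hb e => by
    have ha' := Finset.mem_Icc.1 ha
    have hb' := Finset.mem_Icc.1 hb
    rcases hinj _ _ (hLne a ha) (hLne b hb) e with e' | e'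
    · rw [ZMod.natCast_eq_natCast_iff', Nat.mod_eq_of_lt (by omega), Nat.mod_eq_of_lt (by omega)] at e'
      exact e'
    · rw [eq_neg_iff_add_eq_zero, ← Nat.cast_add, ZMod.natCast_eq_zero_iff] at e'
      exact absurd (Nat.le_of_dvd (by omega) e') (by omega)
  -- the lower bound on the degree
  let S : Finset (Cfsg.IrrCharacter G) := insert θ ((Finset.Icc 1 r).image fun n : ℕ => μ (n : ZMod p))
  have hSprin : principal G ∉ S := by
    simp only [S, Finset.mem_insert, Finset.mem_image, not_or, not_exists, not_and]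
    exact ⟨hθ1.symm, fun n hn => (hμ _ (hLne n hn)).2.1⟩
  have hbound : 1 + m θ * deg (θ : G → ℂ) +
      ∑ n ∈ Finset.Icc 1 r, m (μ (n : ZMod p)) * deg (μ (n : ZMod p) : G → ℂ) ≤ 2 * p := by
    have hθim : θ ∉ (Finset.Icc 1 r).image fun n : ℕ => μ (n : ZMod p) := by
      simp only [Finset.mem_image, not_exists, not_and]
      exact fun n hn => (hμ _ (hLne n hn)).1
    rw [← hdegsum]
    refine le_trans (le_of_eq ?_)
      (Finset.sum_le_sum_of_subset (f := fun χ => m χ * deg (χ : G → ℂ)) (Finset.subset_univ (insert (principal G) S)))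
    rw [Finset.sum_insert hSprin, Finset.sum_insert hθim, Finset.sum_image hμinj, hm1,
      show deg ((principal G : Cfsg.IrrCharacter G) : G → ℂ) = 1 from by
        have e := irr_apply_one_eq_deg (principal G)
        rw [show ((principal G : Cfsg.IrrCharacter G) : G → ℂ) 1 = 1 from rfl] at e
        exact_mod_cast e.symm]
    ring
  have hconst : ∀ n ∈ Finset.Icc 1 r, m (μ (n : ZMod p)) * deg (μ (n : ZMod p) : G → ℂ) =
      m (μ 1) * deg (μ 1 : G → ℂ) := fun n hn => by
    have e1 := hrel _ (hLne n hn)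
    have e2 := hrel 1 h10
    have e3 := hdeg _ (hLne n hn)
    have e4 := hdeg 1 h10
    have a1 : (m (μ (n : ZMod p)) : ℤ) = m (μ 1) := by rcases hδ with rfl | rfl <;> omega
    have a2 : (deg (μ (n : ZMod p) : G → ℂ) : ℤ) = deg (μ 1 : G → ℂ) := by rcases hδ with rfl | rfl <;> omega
    have b1 : m (μ (n : ZMod p)) = m (μ 1) := by exact_mod_cast a1
    have b2 : deg (μ (n : ZMod p) : G → ℂ) = deg (μ 1 : G → ℂ) := by exact_mod_cast a2
    rw [b1, b2]
  rw [Finset.sum_congr rfl hconst, Finset.sum_const, Nat.card_Icc, Nat.add_sub_cancel, smul_eq_mul] at hbound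
  have e2 := hrel 1 h10
  have e4 := hdeg 1 h10
  have hfpos : 0 < deg (μ 1 : G → ℂ) := deg_irr_pos _
  have hθpos : 0 < deg (θ : G → ℂ) := deg_irr_pos _
  rcases hδ with rfl | rfl
  swap
  · -- degree two is impossible
    exfalso
    have hm0 : 1 ≤ m (μ 1) := by
      rcases hε with rfl | rfl
      · omega
      · exfalso
        have : (0 : ℤ) < deg (θ : G → ℂ) := by exact_mod_cast hθpos
        omega
    obtain rfl : ε = 1 := by rcases hε with rfl | rfl <;> omega
    have haμ0 : aμ = 0 := by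
      by_contra hc
      have h1 : p + 2 ≤ deg (μ 1 : G → ℂ) := by
        have : (p : ℤ) * 1 ≤ p * aμ := by gcongr; omega
        omega
      have h2 : 2 * (p + 2) ≤ r * (m (μ 1) * deg (μ 1 : G → ℂ)) :=
        Nat.mul_le_mul hr2 (le_trans h1 (Nat.le_mul_of_pos_left _ hm0))
      omega
    rw [haμ0] at hdμ1
    have hf2 : deg (μ 1 : G → ℂ) = 2 := by omega
    have hθd : deg (θ : G → ℂ) = 1 := by omega
    obtain ⟨w, hw, hwP, hww, hwns⟩ := h.exists_inverter
    have hθone : (θ : G → ℂ) 1 = 1 := by rw [irr_apply_one_eq_deg, hθd, Nat.cast_one]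
    have hμone : (μ 1 : G → ℂ) 1 = 2 := by rw [irr_apply_one_eq_deg, hf2, Nat.cast_ofNat]
    have hθy : ∀ y : h.P, (θ : G → ℂ) y = 1 := fun y => by
      by_cases h1 : y = 1
      · rw [h1, OneMemClass.coe_one, hθone]
      · rw [hθP y, if_neg h1, if_neg h1]; push_cast; ring
    have hμy : ∀ y : h.P, (y : G) ≠ 1 → (μ 1 : G → ℂ) y ≠ 2 := fun y h1 e => by
      have hy : y ≠ 1 := fun e' => h1 (by rw [e', OneMemClass.coe_one])
      rw [hμP 1 h10 y, if_neg hy] at e
      push_cast at e
      have hu : h.E 1 y * h.E (-1) y = 1 := by rw [h.E_mul, add_neg_cancel, E_zero]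
      have h0 : (h.E 1 y - 1) ^ 2 = 0 := by linear_combination h.E 1 y * e - hu
      refine hy (h.E_injective h10 ?_)
      rw [map_one]
      exact sub_eq_zero.1 (pow_eq_zero_iff two_ne_zero |>.1 h0)
    obtain ⟨lam, hlam⟩ := exists_hom_of_deg_one (isCharacter_of_irr θ.2) hθone
    have hθK := isCharacter_of_irr θ.2
    have hμK := isCharacter_of_irr (μ 1).2
    have hker : kerSubgroup _ hμK = ⊥ := hmin _ (kerSubgroup_normal hμK) fun ht => by
      rw [mem_kerSubgroup, hμone] at ht
      have ht1 : h.t ≠ 1 := fun e => by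
        have := h.order; rw [e, orderOf_one] at this; omega
      exact hμy ⟨h.t, Subgroup.mem_zpowers _⟩ ht1 ht
    let K := kerSubgroup _ hθK
    have hK1 : ∀ g, ¬h.Sing g → g ∈ K → g = 1 := fun g hg hgK => by
      have e := hnonsing 1 h10 g hg
      rw [mem_kerSubgroup, hθone] at hgK
      rw [hgK] at e
      push_cast at e
      have : g ∈ kerSubgroup _ hμK := by rw [mem_kerSubgroup, hμone]; linear_combination -e
      rwa [hker, Subgroup.mem_bot] at this
    have hwK : w ∉ K := fun hwK => hwP ((hK1 w hwns hwK) ▸ one_mem _)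
    let F : G → ℂ := fun g => if g ∈ K then 1 else 0
    have hF : Cfsg.IsClassFunction G F := fun a b => by
      have := kerSubgroup_normal hθK
      simp only [F, show (b * a * b⁻¹ ∈ K ↔ a ∈ K) from
        ⟨fun hh => by have := this.conj_mem _ hh b⁻¹; simpa [mul_assoc] using this, fun hh => this.conj_mem _ hh b⟩]
    have e := h.sum_nonsing hF
    rw [Finset.sum_eq_single (1 : G), show F 1 = 1 from if_pos K.one_mem,
      show ∑ g : G, F g = (Nat.card K : ℂ) by rw [sum_ite_mem, mul_one],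
      Finset.sum_congr rfl (fun (y : h.P) _ => (if_pos (by rw [mem_kerSubgroup, hθone]; exact hθy y) : F y = 1)),
      Finset.sum_const, Finset.card_univ, nsmul_eq_mul, mul_one, ← Nat.card_eq_fintype_card, h.card_P] at e
    rotate_left
    · intro g hg hg1
      exact if_neg fun hgK => hg1 (hK1 g (Finset.mem_filter.1 hg).2 hgK)
    · intro hh
      exact absurd (Finset.mem_filter.2 ⟨Finset.mem_univ (1 : G), fun e => e.1 rfl⟩) hh
    have e' : (2 * (p : ℤ)) = 2 * p * Nat.card K - Nat.card G * ((p : ℤ) - 1) := by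
      apply Int.cast_injective (α := ℂ)
      push_cast
      have hp0 : (2 * (p : ℂ)) ≠ 0 := by exact_mod_cast (by omega : 2 * p ≠ 0)
      linear_combination (2 * (p : ℂ)) * e -
        ((p : ℂ) - 1) * div_mul_cancel₀ (Nat.card G : ℂ) hp0
    have hd2 : 2 ≤ K.index := by
      have h1 : K.index ≠ 1 := fun hh => hwK (Subgroup.index_eq_one.1 hh ▸ Subgroup.mem_top w)
      have := Subgroup.index_ne_zero_of_finite (H := K)
      omega
    have hGK := K.card_mul_index
    have hkpos : 0 < Nat.card K := Nat.card_pos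
    rcases Nat.lt_or_ge K.index 3 with h3 | h3
    · obtain hh : K.index = 2 := by omega
      rw [hh] at hGK
      have hG2 : (Nat.card G : ℤ) = 2 * p := by
        have h2 : (Nat.card G : ℤ) = 2 * Nat.card K := by rw [← hGK]; push_cast; ring
        nlinarith
      exact hN (Subgroup.eq_top_of_card_eq _ (by rw [show Nat.card h.N = 2 * p from h.normCard]; omega))
    · have h2 : (3 : ℤ) * Nat.card K ≤ Nat.card G := by
        rw [← hGK]; push_cast
        have : (3 : ℤ) ≤ K.index := by exact_mod_cast h3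
        nlinarith
      have hp5 : (5 : ℤ) ≤ p := by omega
      have hk0 : (0 : ℤ) < Nat.card K := by exact_mod_cast hkpos
      nlinarith
  -- the main case
  obtain rfl : ε = -1 := by
    rcases hε with rfl | rfl
    · omega
    · rfl
  have hm0 : m (μ 1) = 0 := by
    by_contra hc
    have hf : p - 2 ≤ deg (μ 1 : G → ℂ) := by
      have h1 : (0 : ℤ) < p * aμ := by omega
      have : (1 : ℤ) ≤ aμ := by
        rcases Nat.eq_zero_or_pos aμ with h0 | h0
        · rw [h0] at h1; simp at h1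
        · exact_mod_cast h0
      have : (p : ℤ) * 1 ≤ p * aμ := by gcongr
      omega
    have h2 : 2 * (p - 2) ≤ r * (m (μ 1) * deg (μ 1 : G → ℂ)) :=
      Nat.mul_le_mul hr2 (le_trans hf (Nat.le_mul_of_pos_left _ (Nat.pos_of_ne_zero hc)))
    have hmθ : m θ = m (μ 1) + 1 := by omega
    have h3 : 2 * (p - 1) ≤ m θ * deg (θ : G → ℂ) := Nat.mul_le_mul (by omega) (by omega)
    omega
  have hmθ : m θ = 1 := by omega
  rw [hm0, hmθ, zero_mul, mul_zero, one_mul, add_zero] at hbound
  have hθd : deg (θ : G → ℂ) = p - 1 := by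
    have hk : (p : ℤ) * (aθ + 1) = deg (θ : G → ℂ) + 1 := by rw [mul_add, mul_one]; omega
    have hk2 : (aθ : ℤ) + 1 ≤ 2 := by nlinarith
    rcases (show aθ = 0 ∨ aθ = 1 by omega) with rfl | rfl
    · omega
    · exfalso
      refine hnot2 ?_
      have hθd : deg (θ : G → ℂ) = 2 * p - 1 := by omega
      have hz : ∀ χ, χ ≠ principal G → χ ≠ θ → m χ = 0 := fun χ h1 h2 => by
        have hh := Finset.sum_le_sum_of_subset (f := fun χ => m χ * deg (χ : G → ℂ))
          (Finset.subset_univ ({principal G, θ, χ} : Finset (Cfsg.IrrCharacter G)))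
        rw [hdegsum, Finset.sum_insert (by simp [hθ1.symm, h1.symm]), Finset.sum_pair h2.symm, hm1, hmθ,
          hθd] at hh
        have hd1 : deg ((principal G : Cfsg.IrrCharacter G) : G → ℂ) = 1 := by
          have e := irr_apply_one_eq_deg (principal G)
          rw [show ((principal G : Cfsg.IrrCharacter G) : G → ℂ) 1 = 1 from rfl] at e
          exact_mod_cast e.symm
        rw [hd1] at hh
        have := deg_irr_pos χ
        by_contra hc
        have : 1 ≤ m χ * deg (χ : G → ℂ) := Nat.mul_pos (Nat.pos_of_ne_zero hc) this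
        omega
      have hπ : permChar G α = (principal G : G → ℂ) + (θ : G → ℂ) := by
        rw [hm, ← Finset.sum_subset (Finset.subset_univ {principal G, θ}) (fun χ _ hχ => by
          simp only [Finset.mem_insert, Finset.mem_singleton, not_or] at hχ
          rw [hz χ hχ.1 hχ.2, zero_smul]), Finset.sum_pair hθ1.symm, hm1, hmθ, one_smul, one_smul]
      rw [hπ, classInner_add_left, classInner_add_right, classInner_add_right, classInner_irr_self,
        classInner_irr_self, classInner_irr_ne hθ1.symm, classInner_irr_ne hθ1]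
      norm_num
  have hprin1 : deg ((principal G : Cfsg.IrrCharacter G) : G → ℂ) = 1 := by
    have e := irr_apply_one_eq_deg (principal G)
    rw [show ((principal G : Cfsg.IrrCharacter G) : G → ℂ) 1 = 1 from rfl] at e
    exact_mod_cast e.symm
  let T : Finset (Cfsg.IrrCharacter G) := Finset.univ \ {principal G, θ}
  have hT : ∑ χ ∈ T, m χ * deg (χ : G → ℂ) = p := by
    have := Finset.sum_sdiff (f := fun χ => m χ * deg (χ : G → ℂ))
      (Finset.subset_univ ({principal G, θ} : Finset (Cfsg.IrrCharacter G)))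
    rw [Finset.sum_pair hθ1.symm, hm1, hmθ, hprin1, hθd, hdegsum] at this
    show ∑ χ ∈ Finset.univ \ {principal G, θ}, m χ * deg (χ : G → ℂ) = p
    omega
  have hbig : ∀ χ ∈ T, m χ ≠ 0 → p ≤ deg (χ : G → ℂ) := fun χ hχ hχm => by
    simp only [T, Finset.mem_sdiff, Finset.mem_univ, true_and, Finset.mem_insert, Finset.mem_singleton,
      not_or] at hχ
    obtain ⟨a, ha⟩ := hint χ
    have e := h.restrict_eq (isClassFunction_irr χ) (fun _ => 0) rfl (fun l hl => by
      rw [hIχ χ l hl, if_neg hχ.1, if_neg hχ.2, if_neg, mul_zero, mul_zero, add_zero, add_zero]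
      intro e
      have h0 := hrel l hl
      rw [← e, hmθ] at h0
      omega) 1
    rw [if_pos rfl, ha, OneMemClass.coe_one, irr_apply_one_eq_deg] at e
    simp only [zero_mul, Finset.sum_const_zero, sub_zero] at e
    have e' : deg (χ : G → ℂ) = p * a := by exact_mod_cast e
    have := deg_irr_pos χ
    rcases Nat.eq_zero_or_pos a with h0 | h0
    · rw [h0, mul_zero] at e'; omega
    · rw [e']; exact Nat.le_mul_of_pos_right _ h0
  obtain ⟨ψ, hψT, hψ0⟩ := Finset.exists_ne_zero_of_sum_ne_zero (hT.symm ▸ hp.ne_zero)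
  have hψm : m ψ ≠ 0 := fun e => hψ0 (by rw [e, zero_mul])
  have hsplit := Finset.add_sum_erase T (fun χ => m χ * deg (χ : G → ℂ)) hψT
  rw [hT] at hsplit
  have hψp : p ≤ m ψ * deg (ψ : G → ℂ) :=
    le_trans (hbig ψ hψT hψm) (Nat.le_mul_of_pos_left _ (Nat.pos_of_ne_zero hψm))
  have hrest : ∀ χ ∈ T, χ ≠ ψ → m χ = 0 := fun χ hχ hne' => by
    have h0 : ∑ χ ∈ T.erase ψ, m χ * deg (χ : G → ℂ) = 0 := by omega
    rcases Nat.mul_eq_zero.1 (Finset.sum_eq_zero_iff.1 h0 χ (Finset.mem_erase.2 ⟨hne', hχ⟩)) with e | e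
    · exact e
    · exact absurd e (deg_irr_pos χ).ne'
  have hψeq : m ψ * deg (ψ : G → ℂ) = p := by omega
  have hψd : deg (ψ : G → ℂ) = p := le_antisymm
    ((Nat.le_mul_of_pos_left _ (Nat.pos_of_ne_zero hψm)).trans hψeq.le) (hbig ψ hψT hψm)
  have hψ1 : m ψ = 1 := Nat.eq_of_mul_eq_mul_right hp.pos (by rw [one_mul, ← hψd, hψeq, hψd])
  simp only [T, Finset.mem_sdiff, Finset.mem_univ, true_and, Finset.mem_insert, Finset.mem_singleton,
    not_or] at hψT
  refine ⟨θ, ψ, μ, ?_, Ne.symm hψT.2, hθ1, hψT.1, ?_, ?_, fun l hl => ⟨(hμ l hl).2.1, ?_, fun g hg => ?_,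
    fun y hy => ?_, ?_⟩, hinj⟩
  · rw [hm, ← Finset.sum_subset (Finset.subset_univ {principal G, θ, ψ}) (fun χ _ hχ => by
      simp only [Finset.mem_insert, Finset.mem_singleton, not_or] at hχ
      rw [hrest χ (by simp [T, hχ.1, hχ.2.1]) hχ.2.2, zero_smul]),
      Finset.sum_insert (by simp [hθ1.symm, Ne.symm hψT.1]), Finset.sum_pair (Ne.symm hψT.2), hm1, hmθ, hψ1,
      one_smul, one_smul, one_smul, add_assoc]
    rfl
  · rw [irr_apply_one_eq_deg, hθd]
  · rw [irr_apply_one_eq_deg, hψd]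
  · rw [irr_apply_one_eq_deg]
    have := hdeg l hl
    congr 1
    omega
  · have := hnonsing l hl g hg
    push_cast at this
    linear_combination this
  · rw [hμP l hl y, if_neg fun e => hy (by rw [e, OneMemClass.coe_one])]
    push_cast
    ring
  · rw [(hμ l hl).2.2]
    funext g
    simp [sub_eq_add_neg]

end Cfsg.Lib.PermGroups.PrimeExceptional.Setting
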