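import Cfsg.Agent.PermGroups.DegreeTwiceP.RankThree

/-!
# Consequences for the point stabiliser
-/

set_option autoImplicit false
set_option linter.unusedSectionVars false

namespace Cfsg.Lib.PermGroups.DegreeTwiceP

open scoped Classical

universe u v

variable {G : Type u} [Group G] [Finite G] {α : Type v} [MulAction G α] [Fintype α] {a : ℕ}

theorem valency_dvd_stabilizer (ha : 0 < a) (Γ : Graph G α a) (v : α) :
    2 * a ^ 2 + a ∣ Nat.card (MulAction.stabilizer G v) := by
  obtain ⟨⟨b, hb⟩⟩ : Nonempty {j // Γ.adj v j} :=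
    (Nat.card_pos_iff.1 (show 0 < Nat.card {j // Γ.adj v j} by rw [Γ.valency]; positivity)).1
  let S := MulAction.stabilizer G v
  have horb : MulAction.orbit S b = {j | Γ.adj v j} := by
    ext j
    constructor
    · rintro ⟨⟨g, hg⟩, rfl⟩
      show Γ.adj v (g • b)
      have := (Γ.smul g v b).2 hb
      rwa [MulAction.mem_stabilizer_iff.1 hg] at this
    · intro hj
      obtain ⟨g, h1, h2⟩ := Γ.trans v b j hb hj
      exact ⟨⟨g, MulAction.mem_stabilizer_iff.2 h1⟩, h2⟩
  have h1 := Nat.card_congr (MulAction.orbitProdStabilizerEquivGroup S b)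
  rw [Nat.card_prod, horb, show Nat.card ({j | Γ.adj v j} : Set α) = 2 * a ^ 2 + a from Γ.valency v] at h1
  exact Dvd.intro _ h1

/-- In the Petersen case the point stabiliser has order dividing `48`. -/
theorem stabilizer_dvd_petersen [FaithfulSMul G α] (Γ : Graph G α 1) (v : α) :
    Nat.card (MulAction.stabilizer G v) ∣ 48 := by
  let S := MulAction.stabilizer G v
  let Nb := {j // Γ.adj v j}
  have hval : ∀ i, Nat.card {j // Γ.adj i j} = 3 := fun i => by rw [Γ.valency]; norm_num
  have hmem : ∀ (g : S) (j : α), Γ.adj v j → Γ.adj v ((g : G) • j) := fun g j hj => by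
    have := (Γ.smul g v j).2 hj
    rwa [MulAction.mem_stabilizer_iff.1 g.2] at this
  let φ : S →* Equiv.Perm Nb :=
    { toFun := fun g =>
        { toFun := fun j => ⟨(g : G) • j.1, hmem g _ j.2⟩
          invFun := fun j => ⟨((g⁻¹ : S) : G) • j.1, hmem g⁻¹ _ j.2⟩
          left_inv := fun j => Subtype.ext (by simp)
          right_inv := fun j => Subtype.ext (by simp) }
      map_one' := Equiv.ext fun j => Subtype.ext (one_smul G j.1)
      map_mul' := fun g g' => Equiv.ext fun j => Subtype.ext (mul_smul (g : G) (g' : G) j.1) }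
  have hK : ∀ (g : φ.ker) (j : α), Γ.adj v j → ((g : S) : G) • j = j := fun g j hj =>
    congrArg Subtype.val (DFunLike.congr_fun (MonoidHom.mem_ker.1 g.2) ⟨j, hj⟩)
  let Sb := fun b : Nb => {z // z ≠ v ∧ Γ.adj b.1 z}
  have hmem2 : ∀ (g : φ.ker) (b : Nb) (z : α), z ≠ v ∧ Γ.adj b.1 z →
      ((g : S) : G) • z ≠ v ∧ Γ.adj b.1 (((g : S) : G) • z) := fun g b z hz => by
    constructor
    · intro e
      apply hz.1
      have hgv := MulAction.mem_stabilizer_iff.1 (g : S).2
      exact (MulAction.injective ((g : S) : G)) (e.trans hgv.symm)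
    · have := (Γ.smul ((g : S) : G) b.1 z).2 hz.2
      rwa [hK g b.1 b.2] at this
  let ψ : φ.ker →* ((b : Nb) → Equiv.Perm (Sb b)) :=
    { toFun := fun g b =>
        { toFun := fun z => ⟨((g : S) : G) • z.1, hmem2 g b _ z.2⟩
          invFun := fun z => ⟨(((g⁻¹ : φ.ker) : S) : G) • z.1, hmem2 g⁻¹ b _ z.2⟩
          left_inv := fun z => Subtype.ext (by simp)
          right_inv := fun z => Subtype.ext (by simp) }
      map_one' := funext fun b => Equiv.ext fun z => Subtype.ext (one_smul G z.1)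
      map_mul' := fun g g' => funext fun b => Equiv.ext fun z => Subtype.ext (mul_smul ((g : S) : G) ((g' : S) : G) z.1) }
  have hψ : Function.Injective ψ := by
    rw [injective_iff_map_eq_one]
    intro g hg
    refine Subtype.ext (Subtype.ext (FaithfulSMul.eq_of_smul_eq_smul fun z : α => ?_))
    show ((g : S) : G) • z = (1 : G) • z
    rw [one_smul]
    by_cases h1 : z = v
    · rw [h1]; exact MulAction.mem_stabilizer_iff.1 (g : S).2
    by_cases h2 : Γ.adj v z
    · exact hK g z h2
    obtain ⟨⟨b, hvb, hbz⟩⟩ : Nonempty {w // Γ.adj v w ∧ Γ.adj w z} :=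
      (Nat.card_pos_iff.1 (show 0 < Nat.card {w // Γ.adj v w ∧ Γ.adj w z} by
        rw [Γ.common_nonadj v z (Ne.symm h1) h2]; norm_num)).1
    exact congrArg Subtype.val (DFunLike.congr_fun (congrFun hg ⟨b, hvb⟩) ⟨z, h1, hbz⟩)
  have hcardNb : Nat.card (Equiv.Perm Nb) = 6 := by rw [Nat.card_perm, hval v]; rfl
  have hcardSb : ∀ b : Nb, Nat.card (Equiv.Perm (Sb b)) = 2 := fun b => by
    rw [Nat.card_perm]
    have h1 : Nat.card (Sb b) + 1 = 3 := by
      rw [← hval b.1, ← Finite.card_option]
      refine Nat.card_congr ((Equiv.optionSubtypeNe (⟨v, Γ.symm _ _ b.2⟩ : {j // Γ.adj b.1 j})).symm.trans ?_).symm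
      exact Equiv.optionCongr
        { toFun := fun z => ⟨z.1.1, fun e => z.2 (Subtype.ext e), z.1.2⟩
          invFun := fun z => ⟨⟨z.1, z.2.2⟩, fun e => z.2.1 (congrArg Subtype.val e)⟩
          left_inv := fun z => rfl
          right_inv := fun z => rfl }
    rw [show Nat.card (Sb b) = 2 by omega]; rfl
  have h8 : Nat.card φ.ker ∣ 8 := by
    refine (Subgroup.card_dvd_of_injective ψ hψ).trans ?_
    rw [Nat.card_pi, Finset.prod_congr rfl fun b _ => hcardSb b, Finset.prod_const, Finset.card_univ,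
      ← Nat.card_eq_fintype_card, hval v]
    norm_num
  have h6 : φ.ker.index ∣ 6 := by
    rw [Subgroup.index_ker, ← hcardNb]
    exact Subgroup.card_subgroup_dvd_card _
  have := Nat.mul_dvd_mul h8 h6
  rwa [φ.ker.card_mul_index] at this

end Cfsg.Lib.PermGroups.DegreeTwiceP
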