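import Cfsg.Agent.PermGroups.DegreeTwiceP.Decomp
import Cfsg.Agent.Chars.Galois

/-!
# The order of a group with exceptional characters of degree `p - 2`
-/

set_option autoImplicit false
set_option linter.unusedSectionVars false
set_option maxHeartbeats 800000

namespace Cfsg.Lib.PermGroups.PrimeExceptional

open Cfsg.Lib.Chars
open scoped ComplexConjugate Classical

universe u

variable {G : Type u} [Group G] [Fintype G]

/-- `deg - Re χ(g²) ≤ 4 (deg - Re χ(g))`. -/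
theorem re_sub_sq_le {χ : G → ℂ} (hχ : Cfsg.IsCharacter G χ) (g : G) :
    (χ 1).re - (χ (g * g)).re ≤ 4 * ((χ 1).re - (χ g).re) := by
  obtain ⟨ι, _, c, z, hz, hd⟩ := IsCharacter.exists_cyclic_decomp hχ g
  have h0 := hd 0
  have h1 := hd 1
  have h2 := hd 2
  rw [pow_zero] at h0
  rw [pow_one] at h1
  rw [pow_two] at h2
  rw [h0, h1, h2, Complex.re_sum, Complex.re_sum, Complex.re_sum, ← Finset.sum_sub_distrib,
    ← Finset.sum_sub_distrib, Finset.mul_sum]
  refine Finset.sum_le_sum fun i _ => ?_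
  have hn : ‖z i‖ = 1 := Complex.norm_eq_one_of_pow_eq_one (hz i) (orderOf_pos g).ne'
  have hsq : (z i).re * (z i).re + (z i).im * (z i).im = 1 := by
    have := Complex.normSq_eq_norm_sq (z i)
    rw [hn, Complex.normSq_apply] at this
    linarith
  simp only [pow_zero, mul_one, pow_one, Complex.mul_re, Complex.natCast_re, Complex.natCast_im, zero_mul,
    sub_zero, pow_two]
  have hc : (0 : ℝ) ≤ c i := Nat.cast_nonneg _
  nlinarith [mul_nonneg hc (sq_nonneg ((z i).re - 1)), sq_nonneg (z i).im, mul_nonneg hc (sq_nonneg (z i).im)]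

namespace Setting

variable {p : ℕ} [Fact p.Prime] (h : Setting G p)
  {θ : Cfsg.IrrCharacter G} {μ : ZMod p → Cfsg.IrrCharacter G}
  (hμ : ∀ l, l ≠ 0 → μ l ≠ principal G ∧ (μ l : G → ℂ) 1 = ((p - 2 : ℕ) : ℂ) ∧
        (∀ g, ¬h.Sing g → (μ l : G → ℂ) g = (θ : G → ℂ) g - 1) ∧
        (∀ y : h.P, (y : G) ≠ 1 → (μ l : G → ℂ) y = -(h.E l y + h.E (-l) y)) ∧
        h.I l = (fun _ => (1 : ℂ)) - (θ : G → ℂ) + (μ l : G → ℂ))
  (hinj : ∀ k l, k ≠ 0 → l ≠ 0 → μ k = μ l → k = l ∨ k = -l)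

include hμ hinj in
/-- The values of an exceptional character at an element and at its square. -/
theorem square_relation (hp3 : 3 < p) {g : G} (hg : ¬h.Sing g) :
    ((θ : G → ℂ) g - 1) * ((θ : G → ℂ) g - 1) - ((θ : G → ℂ) (g * g) - 1) =
      ((p - 3 : ℕ) : ℂ) * ((θ : G → ℂ) g - 1) := by
  have h10 : (1 : ZMod p) ≠ 0 := one_ne_zero
  set m : ZMod p := 1 + 1 with hmdef
  have hm : m ≠ 0 := fun e => h.neg_ne h10 (eq_neg_of_add_eq_zero_left e).symm
  let V : G → ℂ := fun x => ((μ 1 : G → ℂ) x * (μ 1 : G → ℂ) x - (μ 1 : G → ℂ) (x * x)) / 2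
  have hV : Cfsg.IsCharacter G V := isCharacter_altSquare (isCharacter_of_irr (μ 1).2)
  have hVc := isClassFunction_isChar hV
  have hVy : ∀ y : h.P, (y : G) ≠ 1 → V y = 1 + h.E m y + h.E (-m) y := fun y h1 => by
    have h2 : ((y * y : h.P) : G) ≠ 1 := h.mul_self_ne_one y.2 h1
    have h3 : ∀ l, h.E l (y * y) = h.E l y * h.E l y := fun l => map_mul _ _ _
    show ((μ 1 : G → ℂ) y * (μ 1 : G → ℂ) y - (μ 1 : G → ℂ) ((y * y : h.P) : G)) / 2 = _
    rw [(hμ 1 h10).2.2.2.1 y h1, (hμ 1 h10).2.2.2.1 _ h2, h3, h3, hmdef,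
      show (-(1 + 1) : ZMod p) = -1 + -1 from neg_add 1 1, ← h.E_mul 1 1,
      ← h.E_mul (-1) (-1)]
    have hu : h.E 1 y * h.E (-1) y = 1 := by rw [h.E_mul, add_neg_cancel, E_zero]
    linear_combination hu
  obtain ⟨c, hc⟩ := IsCharacter.exists_mult hV (μ m).2
  have hdiff : ∀ l, l ≠ 0 → l ≠ m → l ≠ -m → Cfsg.classInner V (μ l : G → ℂ) = (c : ℂ) + 1 := by
    intro l hl hl₁ hl₂
    have e : (μ l : G → ℂ) = (μ m : G → ℂ) + (h.I l - h.I m) := by
      rw [(hμ l hl).2.2.2.2, (hμ m hm).2.2.2.2]; abel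
    rw [e, classInner_add_right, hc, add_right_inj]
    have e2 : h.I l - h.I m = Cfsg.indFun h.P (h.θ l - h.θ m) := (indFun_sub _ _ _).symm
    rw [e2, frobenius_reciprocity' _ _ hVc]
    have e3 : h.θ l - h.θ m = ⇑(h.E m) - ⇑(h.E l) := by simp [Setting.θ]
    rw [e3]
    have e4 : Cfsg.classInner (fun y : h.P => V y) (⇑(h.E m) - ⇑(h.E l)) =
        Cfsg.classInner (⇑(h.E 0) + ⇑(h.E m) + ⇑(h.E (-m))) (⇑(h.E m) - ⇑(h.E l)) := by
      rw [classInner_def, classInner_def]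
      congr 1
      refine Finset.sum_congr rfl fun y _ => ?_
      by_cases h1 : (y : G) = 1
      · simp [show y = 1 from Subtype.ext h1]
      · rw [hVy y h1]
        simp [E_zero]
    rw [e4]
    simp only [classInner_add_left, classInner_sub_right, classInner_E]
    simp only [Ne.symm hm, Ne.symm hl, Ne.symm hl₁, h.neg_ne hm, Ne.symm hl₂, if_false, if_true]
    norm_num
  let D : Finset (ZMod p) := Finset.univ \ {0, m, -m}
  have hD : ∀ l ∈ D, l ≠ 0 ∧ l ≠ m ∧ l ≠ -m := fun l hl => by simpa [D, not_or] using hl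
  have hDcard : D.card = p - 3 := by
    rw [Finset.card_sdiff_of_subset (Finset.subset_univ _), Finset.card_univ, ZMod.card,
      Finset.card_insert_of_notMem, Finset.card_pair (h.neg_ne hm).symm]
    simp only [Finset.mem_insert, Finset.mem_singleton, not_or]
    exact ⟨Ne.symm hm, fun e => hm (neg_eq_zero.1 e.symm)⟩
  let S : Finset (Cfsg.IrrCharacter G) := D.image μ
  have hScard : p - 3 ≤ 2 * S.card := by
    rw [← hDcard]
    refine Finset.card_le_mul_card_image D 2 fun b hb => ?_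
    obtain ⟨l, hl, rfl⟩ := Finset.mem_image.1 hb
    refine le_trans (Finset.card_le_card (t := {l, -l}) ?_) Finset.card_le_two
    intro k hk
    rw [Finset.mem_filter] at hk
    rcases hinj k l (hD k hk.1).1 (hD l hl).1 hk.2 with rfl | rfl <;> simp
  let f : G → ℂ := V - ∑ χ ∈ S, (χ : G → ℂ)
  have hS : Cfsg.IsCharacter G (∑ χ ∈ S, (χ : G → ℂ)) :=
    IsCharacter.sum S _ fun χ _ => isCharacter_of_irr χ.2
  have hfc : Cfsg.IsCharacter G f := by
    refine isCharacter_of_coeff (fun x y => ?_) fun χ => ?_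
    · simp only [f, Pi.sub_apply]
      rw [hVc x y, isClassFunction_isChar hS x y]
    obtain ⟨n, hn⟩ := IsCharacter.exists_mult hV χ.2
    simp only [f, classInner_sub_left, classInner_sum_left, hn]
    by_cases hχ : χ ∈ S
    · rw [Finset.sum_eq_single χ (fun ψ _ hψ => classInner_irr_ne hψ) (fun e => absurd hχ e), classInner_irr_self]
      obtain ⟨l, hl, rfl⟩ := Finset.mem_image.1 hχ
      obtain ⟨hl0, hl1, hl2⟩ := hD l hl
      rw [hdiff l hl0 hl1 hl2] at hn
      exact ⟨c, by linear_combination -hn⟩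
    · rw [Finset.sum_eq_zero fun ψ hψ => classInner_irr_ne fun (e : ψ = χ) => hχ (e ▸ hψ)]
      exact ⟨n, by rw [sub_zero]⟩
  obtain ⟨d, hd⟩ := IsCharacter.apply_one hfc
  have hfval : ∀ x, ¬h.Sing x → f x =
      (((θ : G → ℂ) x - 1) * ((θ : G → ℂ) x - 1) - ((θ : G → ℂ) (x * x) - 1)) / 2 -
        (S.card : ℂ) * ((θ : G → ℂ) x - 1) := fun x hx => by
    simp only [f, Pi.sub_apply, Finset.sum_apply]
    rw [Finset.sum_congr rfl fun (χ : Cfsg.IrrCharacter G) (hχ : χ ∈ S) => (show (χ : G → ℂ) x = (θ : G → ℂ) x - 1 by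
        obtain ⟨l, hl, rfl⟩ := Finset.mem_image.1 hχ
        exact (hμ l (hD l hl).1).2.2.1 x hx), Finset.sum_const, nsmul_eq_mul]
    simp only [V]
    rw [(hμ 1 h10).2.2.1 x hx, (hμ 1 h10).2.2.1 _ (h.not_sing_mul_self hx)]
  have hone := hfval 1 fun e => e.1 rfl
  have hθ1 : (θ : G → ℂ) 1 - 1 = ((p - 2 : ℕ) : ℂ) := by
    rw [← (hμ 1 h10).2.2.1 1 fun e => e.1 rfl]; exact (hμ 1 h10).2.1
  rw [one_mul, hθ1, hd, Nat.cast_sub (by omega : 2 ≤ p)] at hone
  have hint : (2 * d + 2 * S.card * ((p : ℤ) - 2) : ℤ) = ((p : ℤ) - 2) * ((p : ℤ) - 2) - ((p : ℤ) - 2) := by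
    apply Int.cast_injective (α := ℂ)
    push_cast at hone ⊢
    linear_combination 2 * hone
  have h3 : 2 * S.card = p - 3 ∧ d = 0 := by
    have hA : ((p : ℤ) - 3) ≤ 2 * (S.card : ℤ) := by
      have := (Nat.cast_le (α := ℤ)).2 hScard
      push_cast [Nat.cast_sub (show 3 ≤ p by omega)] at this
      linarith
    have hB : (0 : ℤ) < (p : ℤ) - 2 := by omega
    have hC : 2 * (S.card : ℤ) = (p : ℤ) - 3 := by nlinarith
    refine ⟨by omega, ?_⟩
    rw [hC] at hint
    nlinarith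
  obtain ⟨h3a, rfl⟩ := h3
  have hf0 : f = 0 := eq_zero_of_apply_one hfc (by rw [hd, Nat.cast_zero])
  have hgv := hfval g hg
  rw [hf0, Pi.zero_apply] at hgv
  rw [← h3a]
  push_cast
  linear_combination -2 * hgv

include hμ hinj in
/-- Apart from the identity the exceptional characters take the values `0` and `-1` off the Sylow subgroups. -/
theorem value_eq (hp5 : 5 < p) (hθint : ∀ g, ∃ n : ℤ, (θ : G → ℂ) g = n)
    (hmin : ∀ K : Subgroup G, K.Normal → h.t ∉ K → K = ⊥) {g : G} (hg : ¬h.Sing g) (hg1 : g ≠ 1) :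
    (θ : G → ℂ) g - 1 = 0 ∨ (θ : G → ℂ) g - 1 = -1 := by
  have h10 : (1 : ZMod p) ≠ 0 := one_ne_zero
  obtain ⟨n, hn⟩ := hθint g
  obtain ⟨n₂, hn₂⟩ := hθint (g * g)
  have hw : (μ 1 : G → ℂ) g = ((n - 1 : ℤ) : ℂ) := by
    rw [(hμ 1 h10).2.2.1 g hg, hn]; push_cast; ring
  have hw₂ : (μ 1 : G → ℂ) (g * g) = ((n₂ - 1 : ℤ) : ℂ) := by
    rw [(hμ 1 h10).2.2.1 _ (h.not_sing_mul_self hg), hn₂]; push_cast; ring
  have hμc := isCharacter_of_irr (μ 1).2
  have hdeg : ((μ 1 : G → ℂ) 1).re = (p : ℝ) - 2 := by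
    rw [(hμ 1 h10).2.1, Complex.natCast_re, Nat.cast_sub (by omega : 2 ≤ p), Nat.cast_ofNat]
  have hb : ∀ x : G, ∀ k : ℤ, (μ 1 : G → ℂ) x = (k : ℂ) → |k| ≤ (p : ℤ) - 2 := fun x k hk => by
    have := IsCharacter.norm_le hμc x
    rw [hk, hdeg, Complex.norm_intCast] at this
    exact_mod_cast this
  have hrel : (n - 1) * (n - 1) - (n₂ - 1) = ((p : ℤ) - 3) * (n - 1) := by
    have e := h.square_relation hμ hinj (by omega) hg
    rw [hn, hn₂, Nat.cast_sub (by omega : 3 ≤ p)] at e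
    exact_mod_cast e
  have hb1 := abs_le.1 (hb g _ hw)
  have hb2 := abs_le.1 (hb _ _ hw₂)
  have hker : n - 1 ≠ (p : ℤ) - 2 := fun e => hg1 (by
    have hK := hmin _ (kerSubgroup_normal hμc) fun ht => by
      rw [mem_kerSubgroup, (hμ 1 h10).2.1] at ht
      have ht1 : h.t ≠ 1 := fun e => by
        have := h.order; rw [e, orderOf_one] at this; omega
      have hy := (hμ 1 h10).2.2.2.1 ⟨h.t, Subgroup.mem_zpowers _⟩ ht1
      rw [ht] at hy
      have hn1 : ∀ l, ‖h.E l ⟨h.t, Subgroup.mem_zpowers _⟩‖ = 1 := fun l => by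
        refine Complex.norm_eq_one_of_pow_eq_one (n := p) ?_ (Fact.out : p.Prime).ne_zero
        have e := pow_card_eq_one' (x := (⟨h.t, Subgroup.mem_zpowers _⟩ : h.P))
        rw [h.card_P] at e
        rw [← map_pow, e, map_one]
      have hh := norm_add_le (h.E 1 ⟨h.t, Subgroup.mem_zpowers _⟩) (h.E (-1) ⟨h.t, Subgroup.mem_zpowers _⟩)
      rw [← norm_neg, ← hy, Complex.norm_natCast, hn1, hn1] at hh
      have : (4 : ℝ) ≤ ((p - 2 : ℕ) : ℝ) := by exact_mod_cast (show 4 ≤ p - 2 by omega)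
      linarith
    have : g ∈ kerSubgroup _ hμc := by
      rw [mem_kerSubgroup, hw, (hμ 1 h10).2.1, e, Nat.cast_sub (by omega : 2 ≤ p)]
      push_cast
      rfl
    rwa [hK, Subgroup.mem_bot] at this)
  have hlow : -1 ≤ n - 1 := by nlinarith
  have hlow₂ : -1 ≤ n₂ - 1 := by
    obtain ⟨n₄, hn₄⟩ := hθint (g * g * (g * g))
    have hw₄ : (μ 1 : G → ℂ) (g * g * (g * g)) = ((n₄ - 1 : ℤ) : ℂ) := by
      rw [(hμ 1 h10).2.2.1 _ (h.not_sing_mul_self (h.not_sing_mul_self hg)), hn₄]; push_cast; ring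
    have hb4 := abs_le.1 (hb _ _ hw₄)
    have hrel₄ : (n₂ - 1) * (n₂ - 1) - (n₄ - 1) = ((p : ℤ) - 3) * (n₂ - 1) := by
      have e := h.square_relation hμ hinj (by omega) (h.not_sing_mul_self hg)
      rw [hn₂, hn₄, Nat.cast_sub (by omega : 3 ≤ p)] at e
      exact_mod_cast e
    nlinarith
  by_contra hc
  push Not at hc
  have h0 : n - 1 ≠ 0 := fun e => hc.1 (by rw [hn]; exact_mod_cast (congrArg (Int.cast : ℤ → ℂ) e))
  have h1 : n - 1 ≠ -1 := fun e => hc.2 (by rw [hn]; exact_mod_cast (congrArg (Int.cast : ℤ → ℂ) e))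
  have hmid : n - 1 = (p : ℤ) - 3 := by
    by_contra hne
    have a1 : 1 ≤ n - 1 := by omega
    have a2 : n - 1 ≤ (p : ℤ) - 4 := by omega
    nlinarith
  have hz : n₂ - 1 = 0 := by rw [hmid] at hrel; linarith
  have := re_sub_sq_le hμc g
  rw [hdeg, hw, hw₂, hz, hmid] at this
  simp only [Int.cast_zero, Complex.zero_re, Complex.intCast_re] at this
  push_cast at this
  have : (7 : ℝ) ≤ p := by
    have h6 : p ≠ 6 := fun e => by subst e; exact absurd (Fact.out : Nat.Prime 6) (by norm_num)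
    exact_mod_cast (show 7 ≤ p by omega)
  linarith

include hμ hinj in
/-- The group has order `p (p - 1) (p - 2)`. -/
theorem order_eq (hp5 : 5 < p) (hθint : ∀ g, ∃ n : ℤ, (θ : G → ℂ) g = n)
    (hmin : ∀ K : Subgroup G, K.Normal → h.t ∉ K → K = ⊥) :
    Nat.card G = p * (p - 1) * (p - 2) := by
  have h10 : (1 : ZMod p) ≠ 0 := one_ne_zero
  set M : G → ℂ := (μ 1 : G → ℂ) with hM
  have hMc := isClassFunction_irr (μ 1)
  let F : G → ℂ := fun g => M g * conj (M g) + M g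
  have hF : Cfsg.IsClassFunction G F := fun a b => by simp only [F, M, hMc a b]
  have hsum : ∑ g : G, F g = (Nat.card G : ℂ) := by
    simp only [F, Finset.sum_add_distrib]
    have hG : (Nat.card G : ℂ) ≠ 0 := by exact_mod_cast Nat.card_pos.ne'
    have e1 := classInner_irr_self (μ 1)
    have e2 := classInner_irr_ne (hμ 1 h10).1
    rw [classInner_def, inv_mul_eq_iff_eq_mul₀ hG, mul_one] at e1
    rw [classInner_def, inv_mul_eq_iff_eq_mul₀ hG, mul_zero] at e2
    have e3 : ∑ g : G, M g = 0 := by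
      rw [← e2]
      exact Finset.sum_congr rfl fun g _ => by simp [M, principal]
    rw [e1, e3, add_zero]
  have hy : ∀ y : h.P, y ≠ 1 → F y = 2 + h.E (1 + 1) y + h.E (-(1 + 1)) y - h.E 1 y - h.E (-1) y := fun y hy1 => by
    have h1 : (y : G) ≠ 1 := fun e => hy1 (Subtype.ext e)
    simp only [F, M, (hμ 1 h10).2.2.2.1 y h1, map_neg, map_add, conj_E, neg_neg]
    rw [show (-(1 + 1) : ZMod p) = -1 + -1 from neg_add 1 1, ← h.E_mul 1 1, ← h.E_mul (-1) (-1)]
    have hu : h.E 1 y * h.E (-1) y = 1 := by rw [h.E_mul, add_neg_cancel, E_zero]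
    linear_combination 2 * hu
  have hsumP : ∑ y : h.P, F y - F 1 = 2 * (p : ℂ) - 2 := by
    rw [← Finset.add_sum_erase Finset.univ (fun y : h.P => F y) (Finset.mem_univ 1), OneMemClass.coe_one,
      add_sub_cancel_left, Finset.sum_congr rfl fun y hy' => hy y (Finset.mem_erase.1 hy').1,
      Finset.sum_erase_eq_sub (Finset.mem_univ 1)]
    have hsE : ∀ k : ZMod p, k ≠ 0 → ∑ y : h.P, h.E k y = 0 := fun k hk => by
      have e := h.classInner_E k 0
      rw [classInner_def, if_neg hk, h.card_P, mul_eq_zero] at e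
      have hp0 : (p : ℂ)⁻¹ ≠ 0 := inv_ne_zero (by exact_mod_cast (Fact.out : p.Prime).ne_zero)
      rw [← e.resolve_left hp0]
      exact Finset.sum_congr rfl fun y _ => by rw [E_zero, map_one, mul_one]
    have h2 : (1 + 1 : ZMod p) ≠ 0 := fun e => h.neg_ne h10 (eq_neg_of_add_eq_zero_left e).symm
    simp only [Finset.sum_add_distrib, Finset.sum_sub_distrib, hsE _ h10, hsE _ h2, hsE _ (neg_ne_zero.2 h2),
      hsE _ (neg_ne_zero.2 h10), Finset.sum_const, Finset.card_univ, nsmul_eq_mul, map_one,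
      ← Nat.card_eq_fintype_card, h.card_P]
    ring
  have e := h.sum_nonsing hF
  rw [hsum, hsumP, Finset.sum_eq_single (1 : G)] at e
  rotate_left
  · intro g hg hg1
    have hns := (Finset.mem_filter.1 hg).2
    have hv : M g = (θ : G → ℂ) g - 1 := (hμ 1 h10).2.2.1 g hns
    rcases h.value_eq hμ hinj hp5 hθint hmin hns hg1 with e0 | e0 <;> simp [F, hv, e0]
  · intro hh
    exact absurd (Finset.mem_filter.2 ⟨Finset.mem_univ (1 : G), fun e => e.1 rfl⟩) hh
  simp only [F, M, (hμ 1 h10).2.1, map_natCast] at e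
  have hp0 : (2 * (p : ℂ)) ≠ 0 := mul_ne_zero two_ne_zero (by exact_mod_cast (Fact.out : p.Prime).ne_zero)
  apply Nat.cast_injective (R := ℂ)
  push_cast [Nat.cast_sub (show 1 ≤ p by omega), Nat.cast_sub (show 2 ≤ p by omega)] at e ⊢
  linear_combination -(p : ℂ) * e + ((p : ℂ) - 1) * div_mul_cancel₀ (Nat.card G : ℂ) hp0

end Setting

end Cfsg.Lib.PermGroups.PrimeExceptional
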