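import Cfsg.Agent.Chars.Perm
import Cfsg.Agent.Chars.Construct
import Cfsg.Agent.Chars.Values
import Cfsg.Agent.Chars.Count

/-!
# Wielandt's computation for a rank three group of degree `2 p`
-/

set_option autoImplicit false
set_option linter.unusedSectionVars false
set_option maxHeartbeats 800000

namespace Cfsg.Lib.PermGroups.DegreeTwiceP

open Cfsg.Lib.Chars Matrix
open scoped ComplexConjugate Classical

universe u v

variable {G : Type u} [Group G]

/-- An idempotent commuting with a matrix representation cuts out a character. -/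
theorem isCharacter_idem {n : Type v} [Fintype n] [DecidableEq n] (A : G →* Matrix n n ℂ) (E : Matrix n n ℂ)
    (hE : E * E = E) (hc : ∀ g, A g * E = E * A g) :
    Cfsg.IsCharacter G (fun g => (A g * E).trace) := by
  let W : Submodule ℂ (n → ℂ) := LinearMap.range (Matrix.toLin' E)
  have hW : ∀ g, ∀ v ∈ W, Matrix.toLin' (A g) v ∈ W := by
    rintro g _ ⟨w, rfl⟩
    refine ⟨Matrix.toLin' (A g) w, ?_⟩
    simp only [Matrix.toLin'_apply, Matrix.mulVec_mulVec, hc g]
  let σ : Representation ℂ G W :=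
    { toFun := fun g => (Matrix.toLin' (A g)).restrict (hW g)
      map_one' := by
        ext v : 1
        apply Subtype.ext
        show Matrix.toLin' (A 1) v.1 = v.1
        rw [map_one, Matrix.toLin'_one, LinearMap.id_apply]
      map_mul' := fun g h => by
        ext v : 1
        apply Subtype.ext
        show Matrix.toLin' (A (g * h)) v.1 = Matrix.toLin' (A g) (Matrix.toLin' (A h) v.1)
        rw [map_mul, Matrix.toLin'_mul, LinearMap.comp_apply] }
  have key : (fun g => (A g * E).trace) = σ.character := by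
    funext g
    have hmem : ∀ v, Matrix.toLin' (A g * E) v ∈ W := fun v => by
      rw [Matrix.toLin'_mul, LinearMap.comp_apply]
      exact hW g _ ⟨v, rfl⟩
    have h1 : (σ g : W →ₗ[ℂ] W) = (Matrix.toLin' (A g * E)).restrict fun v _ => hmem v := by
      ext v : 1
      apply Subtype.ext
      obtain ⟨w, hw⟩ := v.2
      show Matrix.toLin' (A g) v.1 = Matrix.toLin' (A g * E) v.1
      rw [← hw]
      simp only [Matrix.toLin'_apply, Matrix.mulVec_mulVec, Matrix.mul_assoc, hE]
    rw [Representation.character, h1, LinearMap.trace_restrict_eq_of_forall_mem _ _ hmem, Matrix.trace_toLin'_eq]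
  rw [key]
  exact isCharacter_character σ

variable {α : Type v} [MulAction G α] [Fintype α] [DecidableEq α]

/-- The permutation matrices. -/
noncomputable def permMat (G : Type u) [Group G] (α : Type v) [MulAction G α] [Fintype α] [DecidableEq α] :
    G →* Matrix α α ℂ where
  toFun g := Matrix.of fun i j => if g • j = i then 1 else 0
  map_one' := by ext i j; simp [Matrix.one_apply, eq_comm]
  map_mul' g h := by
    ext i j
    rw [Matrix.mul_apply, Finset.sum_eq_single (h • j)]
    · simp [mul_smul]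
    · intro b _ hb
      simp only [Matrix.of_apply]
      rw [if_neg (fun e : h • j = b => hb e.symm), mul_zero]
    · intro e; exact absurd (Finset.mem_univ _) e

theorem permMat_mul (g : G) (M : Matrix α α ℂ) (i j : α) : (permMat G α g * M) i j = M (g⁻¹ • i) j := by
  rw [Matrix.mul_apply, Finset.sum_eq_single (g⁻¹ • i)]
  · simp [permMat]
  · intro b _ hb
    simp only [permMat, MonoidHom.coe_mk, OneHom.coe_mk, Matrix.of_apply]
    rw [if_neg (fun e : g • b = i => hb (by rw [← e, inv_smul_smul])), zero_mul]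
  · intro e; exact absurd (Finset.mem_univ _) e

theorem mul_permMat (g : G) (M : Matrix α α ℂ) (i j : α) : (M * permMat G α g) i j = M i (g • j) := by
  rw [Matrix.mul_apply, Finset.sum_eq_single (g • j)]
  · simp [permMat]
  · intro b _ hb
    simp only [permMat, MonoidHom.coe_mk, OneHom.coe_mk, Matrix.of_apply]
    rw [if_neg (fun e : g • j = b => hb e.symm), mul_zero]
  · intro e; exact absurd (Finset.mem_univ _) e

theorem commute_permMat {M : Matrix α α ℂ} (hM : ∀ (g : G) i j, M (g • i) (g • j) = M i j) (g : G) :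
    permMat G α g * M = M * permMat G α g := by
  ext i j
  rw [permMat_mul, mul_permMat, ← hM g (g⁻¹ • i) j, smul_inv_smul]

theorem trace_permMat (g : G) : (permMat G α g).trace = permChar G α g := by
  rw [Matrix.trace, permChar, Nat.card_eq_fintype_card, ← Set.toFinset_card]
  simp only [permMat, MonoidHom.coe_mk, OneHom.coe_mk, Matrix.diag_apply, Matrix.of_apply, Finset.sum_boole]
  congr 2
  ext x
  simp [MulAction.mem_fixedBy]

theorem classInner_perm_sq [Fintype G] :
    Cfsg.classInner (permChar G α) (permChar G α) =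
      (Nat.card (MulAction.orbitRel.Quotient G (α × α)) : ℂ) := by
  rw [← classInner_permChar_one, classInner_def, classInner_def]
  congr 1
  refine Finset.sum_congr rfl fun g _ => ?_
  have e2 : Nat.card (MulAction.fixedBy (α × α) g) =
      Nat.card (MulAction.fixedBy α g) * Nat.card (MulAction.fixedBy α g) := by
    rw [← Nat.card_prod]
    exact Nat.card_congr ((Equiv.subtypeEquivRight fun x => by
      simp [MulAction.mem_fixedBy, Prod.ext_iff]).trans
      (Equiv.subtypeProdEquivProd (p := fun a => a ∈ MulAction.fixedBy α g) (q := fun a => a ∈ MulAction.fixedBy α g)))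
  simp only [permChar, e2, Nat.cast_mul, map_natCast, map_one, mul_one]

/-- A graph on `α` with the parameters of a rank three group of degree `p = 2 a ^ 2 + 2 a + 1` times two. -/
structure Graph (G : Type u) [Group G] (α : Type v) [MulAction G α] [Fintype α] (a : ℕ) where
  adj : α → α → Prop
  smul : ∀ (g : G) i j, adj (g • i) (g • j) ↔ adj i j
  symm : ∀ i j, adj i j → adj j i
  irrefl : ∀ i, ¬adj i i
  valency : ∀ i, Nat.card {j // adj i j} = 2 * a ^ 2 + a
  trans : ∀ i j j', adj i j → adj i j' → ∃ g : G, g • i = i ∧ g • j = j'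
  common_adj : ∀ i j, adj i j → Nat.card {z // adj i z ∧ adj z j} = a ^ 2 - 1
  common_nonadj : ∀ i j, i ≠ j → ¬adj i j → Nat.card {z // adj i z ∧ adj z j} = a ^ 2

/-- Wielandt's computation. -/
theorem rank_three [Fintype G] [MulAction.IsPretransitive G α] {p : ℕ} [Fact p.Prime]
    (hα : Fintype.card α = 2 * p) (θ ψ : Cfsg.IrrCharacter G) (hθψ : θ ≠ ψ) (hθ1 : θ ≠ principal G)
    (hψ1 : ψ ≠ principal G) (hπ : permChar G α = (fun _ => (1 : ℂ)) + (θ : G → ℂ) + (ψ : G → ℂ))
    (hθd : (θ : G → ℂ) 1 = ((p - 1 : ℕ) : ℂ)) (hψd : (ψ : G → ℂ) 1 = (p : ℂ))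
    (hstab : ∀ a b : α, MulAction.stabilizer G a = MulAction.stabilizer G b → a = b) :
    ∃ a : ℕ, 0 < a ∧ p = 2 * a ^ 2 + 2 * a + 1 ∧ Nonempty (Graph G α a) ∧
      ∀ g, ∃ n : ℤ, (θ : G → ℂ) g = n := by
  have hp := (Fact.out : p.Prime)
  have hne : Nonempty α := Fintype.card_pos_iff.1 (by rw [hα]; have := hp.pos; omega)
  obtain ⟨a0⟩ := hne
  let cls : α → α → MulAction.orbitRel.Quotient G (α × α) := fun i j => Quotient.mk'' (i, j)
  have hcls : ∀ i j i' j', cls i j = cls i' j' ↔ ∃ g : G, g • i' = i ∧ g • j' = j := fun i j i' j' => by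
    constructor
    · intro e
      obtain ⟨g, hg⟩ := (Quotient.eq''.1 e : (i, j) ∈ MulAction.orbit G (i', j'))
      exact ⟨g, congrArg Prod.fst hg, congrArg Prod.snd hg⟩
    · rintro ⟨g, h1, h2⟩
      exact Quotient.eq''.2 ⟨g, Prod.ext h1 h2⟩
  have hinv : ∀ (g : G) i j, cls (g • i) (g • j) = cls i j := fun g i j => (hcls _ _ _ _).2 ⟨g, rfl, rfl⟩
  let d := cls a0 a0
  have hdiag : ∀ i j, cls i j = d ↔ i = j := fun i j => by
    constructor
    · intro e
      obtain ⟨g, h1, h2⟩ := (hcls _ _ _ _).1 e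
      exact h1.symm.trans h2
    · rintro rfl
      obtain ⟨g, hg⟩ := MulAction.exists_smul_eq G a0 i
      exact (hcls _ _ _ _).2 ⟨g, hg, hg⟩
  have : Fintype (MulAction.orbitRel.Quotient G (α × α)) := Fintype.ofFinite _
  have hrank : Fintype.card (MulAction.orbitRel.Quotient G (α × α)) = 3 := by
    have h0 := classInner_perm_sq (G := G) (α := α)
    rw [hπ, show (fun _ : G => (1 : ℂ)) = (principal G : G → ℂ) from rfl] at h0
    simp only [classInner_add_left, classInner_add_right, classInner_irr_self, classInner_irr_ne hθψ,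
      classInner_irr_ne hθψ.symm, classInner_irr_ne hθ1, classInner_irr_ne hθ1.symm, classInner_irr_ne hψ1,
      classInner_irr_ne hψ1.symm] at h0
    rw [← Nat.card_eq_fintype_card]
    have : ((Nat.card (MulAction.orbitRel.Quotient G (α × α)) : ℕ) : ℂ) = ((3 : ℕ) : ℂ) := by
      rw [← h0]; norm_num
    exact_mod_cast this
  obtain ⟨c₁, c₂, hc12, hc⟩ := Finset.card_eq_two.1 (show (Finset.univ.erase d).card = 2 by
    rw [Finset.card_erase_of_mem (Finset.mem_univ _), Finset.card_univ, hrank])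
  have hcover : ∀ q, q = d ∨ q = c₁ ∨ q = c₂ := fun q => by
    by_cases e : q = d
    · exact Or.inl e
    · have : q ∈ ({c₁, c₂} : Finset _) := hc ▸ Finset.mem_erase.2 ⟨e, Finset.mem_univ _⟩
      simpa using Or.inr this
  have hcne : c₁ ≠ d ∧ c₂ ≠ d :=
    ⟨(Finset.mem_erase.1 (hc.symm ▸ Finset.mem_insert_self c₁ {c₂} : c₁ ∈ Finset.univ.erase d)).1,
      (Finset.mem_erase.1 (hc.symm ▸ Finset.mem_insert_of_mem (Finset.mem_singleton_self c₂) :
        c₂ ∈ Finset.univ.erase d)).1⟩
  let kc : MulAction.orbitRel.Quotient G (α × α) → α → ℕ :=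
    fun c i => (Finset.univ.filter fun j => cls i j = c).card
  have hkinv : ∀ c i, kc c i = kc c a0 := fun c i => by
    obtain ⟨g, rfl⟩ := MulAction.exists_smul_eq G a0 i
    refine (Finset.card_equiv (MulAction.toPerm g) fun j => ?_).symm
    simp [MulAction.toPerm_apply, hinv]
  have hksum : kc c₁ a0 + kc c₂ a0 + 1 = 2 * p := by
    rw [← hα, ← Finset.card_univ, Finset.card_eq_sum_card_fiberwise (f := fun j => cls a0 j) (t := Finset.univ)
      (fun j _ => Finset.mem_univ _), ← Finset.add_sum_erase Finset.univ _ (Finset.mem_univ d), hc,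
      Finset.sum_pair hc12]
    have : (Finset.univ.filter fun j => cls a0 j = d) = {a0} := by
      ext j; simp [hdiag, eq_comm]
    rw [this, Finset.card_singleton]
    show kc c₁ a0 + kc c₂ a0 + 1 = 1 + (kc c₁ a0 + kc c₂ a0)
    ring
  have hsymm : ∀ c, c = c₁ ∨ c = c₂ → ∀ i j, cls i j = c → cls j i = c := by
    intro c hcc i j hij
    by_contra hne'
    have hji : cls j i ≠ d := fun e => by
      rw [(hdiag j i).1 e, (hdiag i i).2 rfl] at hij
      rcases hcc with rfl | rfl
      exacts [hcne.1 hij.symm, hcne.2 hij.symm]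
    have hswap : ∀ i j i' j', cls i j = cls i' j' → cls j i = cls j' i' := fun i j i' j' e => by
      obtain ⟨g, h1, h2⟩ := (hcls _ _ _ _).1 e
      exact (hcls _ _ _ _).2 ⟨g, h2, h1⟩
    have hiff : ∀ x y, cls x y = c ↔ cls y x = cls j i := fun x y =>
      ⟨fun e => hswap _ _ _ _ (e.trans hij.symm), fun e => (hswap _ _ _ _ e).trans hij⟩
    have htot : ∑ x, kc c x = ∑ x, kc (cls j i) x := by
      simp only [kc, Finset.card_filter]
      rw [Finset.sum_comm]
      exact Finset.sum_congr rfl fun y _ => Finset.sum_congr rfl fun x _ => by simp only [hiff x y]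
    rw [Finset.sum_congr rfl fun x _ => hkinv c x, Finset.sum_congr rfl fun x _ => hkinv (cls j i) x,
      Finset.sum_const, Finset.sum_const, smul_eq_mul, smul_eq_mul, Finset.card_univ, hα] at htot
    have := Nat.eq_of_mul_eq_mul_left (by have := hp.pos; omega) htot
    have hji' : cls j i = c₁ ∨ cls j i = c₂ := (hcover _).resolve_left hji
    rcases hcc with rfl | rfl <;> rcases hji' with e | e <;> first
      | exact hne' e
      | (rw [e] at this; omega)
  obtain ⟨c, hcc, hkle⟩ : ∃ c, (c = c₁ ∨ c = c₂) ∧ kc c a0 ≤ p - 1 := by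
    by_cases h1 : kc c₁ a0 ≤ p - 1
    · exact ⟨c₁, Or.inl rfl, h1⟩
    · exact ⟨c₂, Or.inr rfl, by omega⟩
  have hcd : c ≠ d := by rcases hcc with rfl | rfl; exacts [hcne.1, hcne.2]
  let adj : α → α → Prop := fun i j => cls i j = c
  have hadj_symm : ∀ i j, adj i j → adj j i := hsymm c hcc
  have hadj_irr : ∀ i, ¬adj i i := fun i e => hcd (e.symm.trans ((hdiag i i).2 rfl))
  have hadj_smul : ∀ (g : G) i j, adj (g • i) (g • j) ↔ adj i j := fun g i j => by simp only [adj, hinv]
  have hadj_trans : ∀ i j j', adj i j → adj i j' → ∃ g : G, g • i = i ∧ g • j = j' := fun i j j' e e' => by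
    obtain ⟨g, h1, h2⟩ := (hcls _ _ _ _).1 (e'.trans e.symm)
    exact ⟨g, h1, h2⟩
  obtain ⟨b, hb⟩ : ∃ b, adj a0 b := by
    obtain ⟨⟨i, j⟩, hij⟩ := Quotient.exists_rep c
    obtain ⟨g, hg⟩ := MulAction.exists_smul_eq G i a0
    exact ⟨g • j, show cls a0 (g • j) = c by rw [← hg, hinv]; exact hij⟩
  set k := kc c a0 with hkdef
  have hkpos : 0 < k := Finset.card_pos.2 ⟨b, Finset.mem_filter.2 ⟨Finset.mem_univ _, hb⟩⟩
  have hk : ∀ i, (Finset.univ.filter fun j => adj i j).card = k := fun i => hkinv c i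
  obtain ⟨b', hb'⟩ : ∃ b', b' ≠ a0 ∧ ¬adj a0 b' := by
    by_contra hcon
    push Not at hcon
    have : Finset.univ.erase a0 ⊆ Finset.univ.filter fun j => adj a0 j := fun j hj =>
      Finset.mem_filter.2 ⟨Finset.mem_univ _, hcon j (Finset.mem_erase.1 hj).1⟩
    have := Finset.card_le_card this
    rw [Finset.card_erase_of_mem (Finset.mem_univ _), Finset.card_univ, hα, hk] at this
    omega
  let N : α → α → ℕ := fun i j => (Finset.univ.filter fun z => adj i z ∧ adj z j).card
  have hNinv : ∀ (g : G) i j, N (g • i) (g • j) = N i j := fun g i j => by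
    refine (Finset.card_equiv (MulAction.toPerm g) fun z => ?_).symm
    simp [MulAction.toPerm_apply, hadj_smul]
  have hNdiag : ∀ i, N i i = k := fun i => by
    rw [← hk i]
    show (Finset.univ.filter fun z => adj i z ∧ adj z i).card = _
    congr 1
    ext z
    simp only [Finset.mem_filter, Finset.mem_univ, true_and]
    exact ⟨And.left, fun e => ⟨e, hadj_symm _ _ e⟩⟩
  set lam := N a0 b with hlam
  set mu := N a0 b' with hmu
  have hNadj : ∀ i j, adj i j → N i j = lam := fun i j e => by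
    obtain ⟨g, h1, h2⟩ := (hcls i j a0 b).1 (e.trans hb.symm)
    rw [← h1, ← h2, hNinv]
  have hNnon : ∀ i j, i ≠ j → ¬adj i j → N i j = mu := fun i j hij e => by
    have h1 : cls i j ≠ d := fun h => hij ((hdiag i j).1 h)
    have h2 : cls a0 b' ≠ d := fun h => hb'.1 ((hdiag a0 b').1 h).symm
    have h3 : cls i j = cls a0 b' := by
      rcases (hcover (cls i j)).resolve_left h1 with x | x <;>
        rcases (hcover (cls a0 b')).resolve_left h2 with y | y <;> rcases hcc with z | z <;> first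
        | exact x.trans y.symm
        | exact absurd (x.trans z.symm) e
        | exact absurd (y.trans z.symm) hb'.2
    obtain ⟨g, g1, g2⟩ := (hcls i j a0 b').1 h3
    rw [← g1, ← g2, hNinv]
  have hmu_le : mu ≤ k := by
    rw [← hk a0]
    exact Finset.card_le_card fun z hz => Finset.mem_filter.2 ⟨Finset.mem_univ _, (Finset.mem_filter.1 hz).2.1⟩
  -- matrices
  let A : Matrix α α ℂ := Matrix.of fun i j => if adj i j then 1 else 0
  let J : Matrix α α ℂ := Matrix.of fun _ _ => 1
  have hNC : ∀ i j, (A * A) i j = (N i j : ℂ) := fun i j => by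
    rw [Matrix.mul_apply]
    show _ = (((Finset.univ.filter fun z => adj i z ∧ adj z j).card : ℕ) : ℂ)
    rw [Finset.natCast_card_filter]
    exact Finset.sum_congr rfl fun z _ => by by_cases e1 : adj i z <;> by_cases e2 : adj z j <;> simp [A, e1, e2]
  have hAA : A * A = ((k : ℂ) - mu) • (1 : Matrix α α ℂ) + ((lam : ℂ) - mu) • A + (mu : ℂ) • J := by
    ext i j
    rw [hNC]
    simp only [Matrix.add_apply, Matrix.smul_apply, smul_eq_mul, A, J, Matrix.of_apply, Matrix.one_apply]
    by_cases e : i = j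
    · subst e; rw [hNdiag, if_pos rfl, if_neg (hadj_irr i)]; ring
    · by_cases e' : adj i j
      · rw [hNadj i j e', if_neg e, if_pos e']; ring
      · rw [hNnon i j e e', if_neg e, if_neg e']; ring
  have hkN : ∀ i, (∑ j, if adj i j then 1 else 0 : ℕ) = k := fun i =>
    (Finset.card_filter _ _).symm.trans (hk i)
  have hkC : ∀ i, (∑ j, if adj i j then (1 : ℂ) else 0) = k := fun i => by
    have := congrArg (Nat.cast : ℕ → ℂ) (hkN i)
    push_cast at this
    exact this
  have hAJ : A * J = (k : ℂ) • J := by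
    ext i j
    simp [Matrix.mul_apply, A, J, hkC]
  have hJA : J * A = (k : ℂ) • J := by
    ext i j
    simp only [Matrix.mul_apply, A, J, Matrix.of_apply, Matrix.smul_apply, smul_eq_mul, one_mul, mul_one]
    rw [← hkC j]
    exact Finset.sum_congr rfl fun z _ => if_congr ⟨hadj_symm _ _, hadj_symm _ _⟩ rfl rfl
  have hJJ : J * J = (2 * p : ℂ) • J := by
    ext i j
    simp [Matrix.mul_apply, J, hα]
  set t : ℂ := (lam : ℂ) - mu with ht
  set nn : ℂ := 2 * (p : ℂ) with hnn
  have hrowN : k * k + mu * (k + 1) = k + lam * k + mu * (2 * p) := by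
    have h0 : ∑ j, N a0 j = k * k := by
      simp only [N, Finset.card_filter]
      rw [Finset.sum_comm]
      have : ∀ z, ∑ j, (if adj a0 z ∧ adj z j then 1 else 0 : ℕ) = if adj a0 z then k else 0 := fun z => by
        by_cases e : adj a0 z
        · simp [e, hkN]
        · simp [e]
      rw [Finset.sum_congr rfl fun z _ => this z, ← Finset.sum_filter, Finset.sum_const, hk, smul_eq_mul]
    have h1 : ∀ j, N a0 j + mu * (if a0 = j then 1 else 0) + mu * (if adj a0 j then 1 else 0) =
        k * (if a0 = j then 1 else 0) + lam * (if adj a0 j then 1 else 0) + mu := fun j => by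
      by_cases e : a0 = j
      · subst e; simp [hNdiag, hadj_irr]
      · by_cases e' : adj a0 j
        · simp [e, e', hNadj]
        · simp [e, e', hNnon a0 j e e']
    have h2 := Finset.sum_congr (s₁ := (Finset.univ : Finset α)) rfl fun j _ => h1 j
    simp only [Finset.sum_add_distrib, ← Finset.mul_sum, Finset.sum_ite_eq, Finset.mem_univ, if_true,
      hkN, Finset.sum_const, Finset.card_univ, hα, h0, mul_one, smul_eq_mul] at h2
    linarith
  have hrow : (k : ℂ) ^ 2 = t * k + k + mu * (nn - 1) := by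
    have := congrArg (Nat.cast : ℕ → ℂ) hrowN
    push_cast at this
    rw [ht, hnn]
    linear_combination this
  have hn0 : nn ≠ 0 := by rw [hnn]; exact mul_ne_zero two_ne_zero (by exact_mod_cast hp.ne_zero)
  -- projectors
  let E : ℂ → ℂ → Matrix α α ℂ := fun r s =>
    (r - s)⁻¹ • (A - s • (1 : Matrix α α ℂ) - (((k : ℂ) - s) / nn) • J)
  let f : ℂ → ℂ → G → ℂ := fun r s g => (permMat G α g * E r s).trace
  have hidem : ∀ r s, r ≠ s → r + s = t → r * s = mu - k → E r s * E r s = E r s := by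
    intro r s hrs hsum hprod
    set w : ℂ := ((k : ℂ) - s) / nn with hw
    have hX : (A - s • (1 : Matrix α α ℂ) - w • J) * (A - s • (1 : Matrix α α ℂ) - w • J) =
        ((k : ℂ) - mu + s ^ 2) • (1 : Matrix α α ℂ) + (t - 2 * s) • A +
          ((mu : ℂ) - 2 * w * k + 2 * w * s + w ^ 2 * nn) • J := by
      simp only [Matrix.sub_mul, Matrix.mul_sub, Matrix.smul_mul, Matrix.mul_smul, Matrix.one_mul, Matrix.mul_one,
        hAA, hAJ, hJA, hJJ, smul_smul, smul_sub, ← ht]
      module
    have hwn : w * nn = (k : ℂ) - s := div_mul_cancel₀ _ hn0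
    have e1 : (k : ℂ) - mu + s ^ 2 = -(s * (r - s)) := by linear_combination hprod
    have e2 : t - 2 * s = r - s := by linear_combination -hsum
    have e3 : (mu : ℂ) - 2 * w * k + 2 * w * s + w ^ 2 * nn = -(w * (r - s)) := by
      refine mul_right_cancel₀ hn0 ?_
      linear_combination (-2 * (k : ℂ) + 2 * s + w * nn + ((k : ℂ) - s) + (r - s)) * hwn - hrow +
        (k : ℂ) * hsum - hprod
    rw [e1, e2, e3] at hX
    have hd : r - s ≠ 0 := sub_ne_zero.2 hrs
    show ((r - s)⁻¹ • (A - s • (1 : Matrix α α ℂ) - w • J)) * ((r - s)⁻¹ • (A - s • (1 : Matrix α α ℂ) - w • J)) =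
      (r - s)⁻¹ • (A - s • (1 : Matrix α α ℂ) - w • J)
    rw [Matrix.smul_mul, Matrix.mul_smul, hX, smul_smul]
    have hd' : (r - s)⁻¹ * (r - s)⁻¹ * (r - s) = (r - s)⁻¹ := by field_simp
    simp only [smul_add, smul_sub, smul_smul]
    match_scalars <;> first
      | linear_combination hd'
      | linear_combination -s * hd'
      | linear_combination -w * hd'
  have hcomm : ∀ r s g, permMat G α g * E r s = E r s * permMat G α g := fun r s g => by
    refine commute_permMat (fun g i j => ?_) g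
    simp [E, A, J, hadj_smul, Matrix.one_apply]
  have hchar : ∀ r s, r ≠ s → r + s = t → r * s = mu - k → Cfsg.IsCharacter G (f r s) := fun r s h1 h2 h3 =>
    isCharacter_idem (permMat G α) (E r s) (hidem r s h1 h2 h3) (hcomm r s)
  have hJtr : ∀ g, (permMat G α g * J).trace = nn := fun g => by
    rw [Matrix.trace]
    simp [permMat_mul, J, hnn, hα]
  have hval : ∀ r s g, f r s g = (r - s)⁻¹ * ((permMat G α g * A).trace - s * permChar G α g - ((k : ℂ) - s)) :=
    fun r s g => by
    simp only [f, E, Matrix.mul_smul, Matrix.mul_sub, Matrix.mul_one, Matrix.trace_smul, Matrix.trace_sub,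
      trace_permMat, hJtr, smul_eq_mul, div_mul_cancel₀ _ hn0]
  have hfone : ∀ r s, f r s 1 = (r - s)⁻¹ * (-(k : ℂ) - (nn - 1) * s) := fun r s => by
    rw [hval, map_one, Matrix.one_mul, show A.trace = 0 by simp [Matrix.trace, A, hadj_irr], permChar,
      MulAction.fixedBy_one_eq_univ, Nat.card_congr (Equiv.Set.univ α), Nat.card_eq_fintype_card, hα]
    push_cast
    ring
  have hfsum : ∀ r s, r ≠ s → f r s + f s r = (θ : G → ℂ) + (ψ : G → ℂ) := fun r s hrs => by
    funext g
    have hd : r - s ≠ 0 := sub_ne_zero.2 hrs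
    have hd' : s - r ≠ 0 := sub_ne_zero.2 hrs.symm
    have := congrFun hπ g
    simp only [Pi.add_apply] at this
    rw [Pi.add_apply, Pi.add_apply, hval, hval]
    rw [← neg_sub r s, inv_neg]
    linear_combination this + (permChar G α g - 1) * inv_mul_cancel₀ hd
  have hk_ne : (k : ℂ) ≠ nn - 1 := fun e => by
    have h1 : ((k + 1 : ℕ) : ℂ) = ((2 * p : ℕ) : ℂ) := by push_cast; rw [← hnn]; linear_combination e
    have h2 : k + 1 = 2 * p := by exact_mod_cast h1
    omega
  have hnotzero : ∀ r s, r + s = t → r * s = mu - k → -(k : ℂ) - (nn - 1) * s ≠ 0 := by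
    intro r s hsum hprod e
    have : (k : ℂ) * nn * ((k : ℂ) - (nn - 1)) = 0 := by
      linear_combination ((nn - 1) * s - (k : ℂ) - (nn - 1) * t) * e - (nn - 1) ^ 2 * hprod +
        (nn - 1) ^ 2 * s * hsum + (nn - 1) * hrow
    rcases mul_eq_zero.1 this with h1 | h1
    · rcases mul_eq_zero.1 h1 with h2 | h2
      · exact absurd (Nat.cast_eq_zero.1 h2) hkpos.ne'
      · exact hn0 h2
    · exact hk_ne (sub_eq_zero.1 h1)
  obtain ⟨cD, hcD⟩ := IsAlgClosed.exists_eq_mul_self (t ^ 2 + 4 * ((k : ℂ) - mu))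
  have hcD0 : cD ≠ 0 := fun e => by
    rw [e, mul_zero] at hcD
    have h1 : ((lam : ℤ) - mu) ^ 2 + 4 * ((k : ℤ) - mu) = 0 := by
      apply Int.cast_injective (α := ℂ)
      push_cast
      rw [ht] at hcD
      exact hcD
    have h2 : (mu : ℤ) ≤ k := by exact_mod_cast hmu_le
    have h3 : (lam : ℤ) - mu = 0 := by nlinarith [sq_nonneg ((lam : ℤ) - mu)]
    have h4 : lam = mu ∧ mu = k := by
      rw [h3] at h1
      omega
    obtain ⟨h4a, h4b⟩ := h4
    rw [h4a, h4b] at hrowN
    have : k * k = k * (2 * p) := by linarith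
    have := Nat.eq_of_mul_eq_mul_left hkpos this
    omega
  obtain ⟨r, s, hrs, hsum, hprod, hfθ⟩ : ∃ r s : ℂ, r ≠ s ∧ r + s = t ∧ r * s = mu - k ∧ f r s = (θ : G → ℂ) := by
    set r₀ : ℂ := (t + cD) / 2 with hr₀
    set s₀ : ℂ := (t - cD) / 2 with hs₀
    have hrs : r₀ ≠ s₀ := fun e => hcD0 (by linear_combination e)
    have hsum : r₀ + s₀ = t := by rw [hr₀, hs₀]; ring
    have hprod : r₀ * s₀ = mu - k := by linear_combination (1 / 4 : ℂ) * hcD
    have hsum' : s₀ + r₀ = t := (add_comm _ _).trans hsum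
    have hprod' : s₀ * r₀ = mu - k := (mul_comm _ _).trans hprod
    have hc1 := hchar r₀ s₀ hrs hsum hprod
    have hc2 := hchar s₀ r₀ hrs.symm hsum' hprod'
    obtain ⟨m, hm⟩ := IsCharacter.exists_decomp hc1
    obtain ⟨m', hm'⟩ := IsCharacter.exists_decomp hc2
    have hcoef : ∀ (φ : G → ℂ) (q : Cfsg.IrrCharacter G → ℕ),
        φ = ∑ χ : Cfsg.IrrCharacter G, q χ • (χ : G → ℂ) →
        ∀ χ : Cfsg.IrrCharacter G, Cfsg.classInner φ (χ : G → ℂ) = (q χ : ℂ) := fun φ q e χ => by
      rw [e]
      have : (∑ χ : Cfsg.IrrCharacter G, q χ • (χ : G → ℂ)) =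
          ∑ χ : Cfsg.IrrCharacter G, (q χ : ℂ) • (χ : G → ℂ) :=
        Finset.sum_congr rfl fun χ _ => (Nat.cast_smul_eq_nsmul ℂ _ _).symm
      rw [this, classInner_irrSum]
    have hadd : ∀ χ, m χ + m' χ = (if θ = χ then 1 else 0) + (if ψ = χ then 1 else 0) := fun χ => by
      have e := congrArg (fun φ => Cfsg.classInner φ (χ : G → ℂ)) (hfsum r₀ s₀ hrs)
      simp only [classInner_add_left, hcoef _ _ hm, hcoef _ _ hm', classInner_irrCharacter] at e
      apply Nat.cast_injective (R := ℂ)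
      push_cast
      exact e
    have hform : ∀ (φ : G → ℂ) (q : Cfsg.IrrCharacter G → ℕ),
        φ = ∑ χ : Cfsg.IrrCharacter G, q χ • (χ : G → ℂ) →
        (∀ χ, χ ≠ θ → χ ≠ ψ → q χ = 0) → φ = q θ • (θ : G → ℂ) + q ψ • (ψ : G → ℂ) := fun φ q e hz => by
      rw [e, ← Finset.sum_subset (Finset.subset_univ {θ, ψ}) (fun χ _ hχ => by
        simp only [Finset.mem_insert, Finset.mem_singleton, not_or] at hχ
        rw [hz χ hχ.1 hχ.2, zero_smul]), Finset.sum_pair hθψ]
    have hz : ∀ χ, χ ≠ θ → χ ≠ ψ → m χ = 0 ∧ m' χ = 0 := fun χ h1 h2 => by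
      have := hadd χ
      rw [if_neg h1.symm, if_neg h2.symm] at this
      omega
    have e1 := hform _ m hm fun χ a b => (hz χ a b).1
    have e2 := hform _ m' hm' fun χ a b => (hz χ a b).2
    have a1 := hadd θ
    have a2 := hadd ψ
    rw [if_pos rfl, if_neg hθψ.symm] at a1
    rw [if_neg hθψ, if_pos rfl] at a2
    have hnz : ∀ r s, r ≠ s → r + s = t → r * s = mu - k → f r s ≠ 0 := fun r s h1 h2 h3 e => by
      have := congrFun e 1
      rw [hfone, Pi.zero_apply] at this
      exact mul_ne_zero (inv_ne_zero (sub_ne_zero.2 h1)) (hnotzero r s h2 h3) this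
    rcases (show (m θ = 1 ∧ m ψ = 0) ∨ (m θ = 0 ∧ m ψ = 1) ∨ (m θ = 0 ∧ m ψ = 0) ∨ (m θ = 1 ∧ m ψ = 1) by omega)
      with ⟨x, y⟩ | ⟨x, y⟩ | ⟨x, y⟩ | ⟨x, y⟩
    · refine ⟨r₀, s₀, hrs, hsum, hprod, ?_⟩
      rw [e1, x, y, one_smul, zero_smul, add_zero]
    · refine ⟨s₀, r₀, hrs.symm, hsum', hprod', ?_⟩
      rw [e2, show m' θ = 1 by omega, show m' ψ = 0 by omega, one_smul, zero_smul, add_zero]
    · exact absurd (by rw [e1, x, y, zero_smul, zero_smul, add_zero] : f r₀ s₀ = 0) (hnz _ _ hrs hsum hprod)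
    · exact absurd (by rw [e2, show m' θ = 0 by omega, show m' ψ = 0 by omega, zero_smul, zero_smul, add_zero] :
        f s₀ r₀ = 0) (hnz _ _ hrs.symm hsum' hprod')
  have hdeg : (k : ℂ) + ((p : ℂ) - 1) * r + p * s = 0 := by
    have e := congrFun hfθ 1
    rw [hfone, hθd, Nat.cast_sub hp.one_le, Nat.cast_one, inv_mul_eq_iff_eq_mul₀ (sub_ne_zero.2 hrs), hnn] at e
    linear_combination -e
  have hr : r = (k : ℂ) + p * t := by linear_combination -hdeg + (p : ℂ) * hsum
  set T : ℤ := (lam : ℤ) - mu with hT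
  have hTc : (T : ℂ) = t := by rw [hT, ht]; push_cast; ring
  have hquad : 2 * ((k : ℤ) + ((p : ℤ) - 1) * T) ^ 2 + ((p : ℤ) - 1) * T ^ 2 = 2 * k := by
    apply Int.cast_injective (α := ℂ)
    push_cast
    rw [hTc]
    have hp0 : (p : ℂ) ≠ 0 := by exact_mod_cast hp.ne_zero
    refine mul_left_cancel₀ hp0 ?_
    have hs : s = t - r := by linear_combination hsum
    rw [hs, hr] at hprod
    rw [hnn] at hrow
    linear_combination (-(2 * (p : ℂ) - 1)) * hprod + hrow
  have hp2 : (2 : ℤ) ≤ p := by exact_mod_cast hp.two_le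
  have hkle' : (k : ℤ) ≤ p - 1 := by omega
  have hkZ : (1 : ℤ) ≤ k := by exact_mod_cast hkpos
  have hT0 : T ≠ 0 := fun e => by
    rw [e] at hquad
    have hk1 : k = 1 := by
      have : (k : ℤ) * k = k * 1 := by linarith [hquad]
      have := mul_left_cancel₀ (by omega : (k : ℤ) ≠ 0) this
      omega
    have hle : ∀ x y, adj x y → MulAction.stabilizer G x ≤ MulAction.stabilizer G y := fun x y e g hg => by
      rw [MulAction.mem_stabilizer_iff] at hg ⊢
      have h1 : adj x (g • y) := by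
        have := (hadj_smul g x y).2 e
        rwa [hg] at this
      obtain ⟨z, hz⟩ := Finset.card_eq_one.1 ((hk x).trans hk1)
      have ey : y ∈ Finset.univ.filter fun j => adj x j := Finset.mem_filter.2 ⟨Finset.mem_univ _, e⟩
      have ey' : g • y ∈ Finset.univ.filter fun j => adj x j := Finset.mem_filter.2 ⟨Finset.mem_univ _, h1⟩
      rw [hz, Finset.mem_singleton] at ey ey'
      rw [ey', ey]
    exact hadj_irr a0 ((hstab a0 b (le_antisymm (hle _ _ hb) (hle _ _ (hadj_symm _ _ hb)))).symm ▸ hb)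
  have hT2 : T ^ 2 ≤ 2 := by nlinarith [sq_nonneg ((k : ℤ) + ((p : ℤ) - 1) * T)]
  have hT1 : T = -1 := by
    have h1 : T ≤ 1 := by nlinarith
    have h2 : -1 ≤ T := by nlinarith
    rcases (show T = 1 ∨ T = -1 by omega) with e | e
    · exfalso; rw [e] at hquad; nlinarith
    · exact e
  obtain ⟨j, hj⟩ : ∃ j : ℕ, p - 1 = k + j := ⟨p - 1 - k, by omega⟩
  have hjZ : (p : ℤ) - 1 = k + j := by omega
  have hpj : p = 2 * j ^ 2 + 2 * j + 1 := by
    rw [hT1] at hquad
    have : ((p : ℕ) : ℤ) = ((2 * j ^ 2 + 2 * j + 1 : ℕ) : ℤ) := by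
      push_cast
      rw [show (p : ℤ) = (k : ℤ) + j + 1 by linarith] at hquad ⊢
      linarith
    exact_mod_cast this
  have hj0 : 0 < j := by
    rcases Nat.eq_zero_or_pos j with rfl | e
    · omega
    · exact e
  have hkj : k = 2 * j ^ 2 + j := by omega
  have hrj : r = -((j : ℂ) + 1) := by
    rw [hr, ← hTc, hT1, hkj, hpj]; push_cast; ring
  have hsj : s = j := by
    have : s = t - r := by linear_combination hsum
    rw [this, hrj, ← hTc, hT1]; push_cast; ring
  have hmuj : mu = j ^ 2 := by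
    have e : ((mu : ℕ) : ℂ) = ((j ^ 2 : ℕ) : ℂ) := by
      rw [hrj, hsj, hkj] at hprod
      push_cast at hprod ⊢
      linear_combination -hprod
    exact_mod_cast e
  have hlamj : lam = j ^ 2 - 1 := by
    have : (lam : ℤ) = (j : ℤ) ^ 2 - 1 := by
      rw [hT, hmuj] at hT1
      push_cast at hT1
      linarith
    have h1 : 1 ≤ j ^ 2 := Nat.one_le_pow _ _ hj0
    omega
  refine ⟨j, hj0, hpj, ⟨⟨adj, hadj_smul, hadj_symm, hadj_irr, fun i => ?_, hadj_trans, fun i i' e => ?_,
    fun i i' e e' => ?_⟩⟩, fun g => ?_⟩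
  · rw [← hkj, ← hk i, Nat.card_eq_fintype_card, Fintype.card_subtype]
  · rw [← hlamj, ← hNadj i i' e, Nat.card_eq_fintype_card, Fintype.card_subtype]
  · rw [← hmuj, ← hNnon i i' e e', Nat.card_eq_fintype_card, Fintype.card_subtype]
  -- integrality
  have htrA : ∃ n : ℕ, (permMat G α g * A).trace = n := by
    refine ⟨(Finset.univ.filter fun i => adj (g⁻¹ • i) i).card, ?_⟩
    rw [Matrix.trace, Finset.natCast_card_filter]
    exact Finset.sum_congr rfl fun i _ => by rw [Matrix.diag_apply, permMat_mul]; rfl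
  obtain ⟨n, hn⟩ := htrA
  have hv := congrFun hfθ g
  rw [hval, hn, hrj, hsj, permChar] at hv
  have hq : (θ : G → ℂ) g = (((-((j : ℚ) + 1) - j)⁻¹ *
      ((n : ℚ) - j * (Nat.card (MulAction.fixedBy α g) : ℚ) - ((k : ℚ) - j)) : ℚ) : ℂ) := by
    rw [← hv]; push_cast; ring
  obtain ⟨z, hz⟩ := int_of_isIntegral_rat (hq ▸ IsCharacter.isIntegral (isCharacter_of_irr θ.2) g)
  exact ⟨z, by rw [hq, hz, Rat.cast_intCast]⟩

end Cfsg.Lib.PermGroups.DegreeTwiceP
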